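import Groth.Agent.RCVan24.Main
import Groth.Agent.Omega15.ConormalSmooth
import Groth.Agent.OmegaLib.DOmega

/-!
# Very free rational curves and pluri-differentials
-/

set_option autoImplicit false
set_option linter.style.haveILetI false
set_option linter.unusedSectionVars false
set_option backward.isDefEq.respectTransparency false
set_option backward.isDefEq.respectTransparency.types false
set_option maxHeartbeats 2000000

universe u

open CategoryTheory CategoryTheory.Limits AlgebraicGeometry Opposite TopologicalSpace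
open Groth.Agent.Coherent Groth.Agent.PicLib Groth.Agent.AmpleLib

noncomputable section

namespace Groth.Agent.RCVan24

theorem subsingleton_pow_extPow (k : Type u) [Field k] (X : Scheme.{u}) [X.Over (Spec (CommRingCat.of k))]
    [IsIntegral X] [Smooth (X ↘ Spec (CommRingCat.of k))] [IsSeparated (X ↘ Spec (CommRingCat.of k))]
    (f : CohB1.ProjSpace 1 k ⟶ X) (hf : f ≫ (X ↘ Spec (CommRingCat.of k)) = CohB1.ProjSpace.toSpec 1 k)
    (hvfree : Subsingleton (Coh.HH (CohB1.ProjSpace 1 k) ((Scheme.Modules.pullback f).obj (Omega.sheaf (X ↘ Spec (CommRingCat.of k)))) 0))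
    (p : ℕ) (hp : 1 ≤ p) (E : X.Modules) (hE : ExtPow.IsExtPow p (Omega.sheaf (X ↘ Spec (CommRingCat.of k))) E)
    (m : ℕ) (hm : 1 ≤ m) : Subsingleton (Coh.HH X (CohB1.tensorPow E m) 0) := by
  let sX := X ↘ Spec (CommRingCat.of k)
  haveI : IsIntegral (CohB1.ProjSpace 1 k) := CurveLib.isIntegral_projSpace k 1
  have hΩ : FlatMod.IsFinLocFree (Omega.sheaf sX) :=
    OmegaLib.isFinLocFree_of_isFormallySmoothHom (OmegaLib.isUniversal_dOmega sX) (Omega15.isFormallySmoothHom_of_smooth sX)
  let Ω' := (Scheme.Modules.pullback f).obj (Omega.sheaf sX)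
  have hΩ' : FlatMod.IsFinLocFree Ω' := FlatMorAdm.isFinLocFree_pullback f hΩ
  obtain ⟨n, hn⟩ := exists_rank hΩ'
  have h0 : Subsingleton Γ(Ω', ⊤) := by
    haveI := hvfree
    exact (CurveRR24.hhZero k Ω').symm.toEquiv.subsingleton
  obtain ⟨φΩ, hφΩ⟩ := exists_frame hn h0
  have hEf : FlatMod.IsFinLocFree E := WedgeDual5.isFinLocFree_of_isExtPow hΩ hE
  obtain ⟨φE, hφE⟩ := exists_extPow hp (ExtPowEx28.isExtPow_pullback_vb f hΩ hE) φΩ hφΩ
  obtain ⟨χ, hχ⟩ := exists_tensorPow (FlatMorAdm.isFinLocFree_pullback f hEf) φE hφE m hm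
  obtain ⟨e⟩ := Clifford24.nonempty_pullback_tensorPow f E m
  haveI := subsingleton_of_frame f hf φΩ (isFinLocFree_tensorPow hEf m) (χ.congr e.symm) hχ
  haveI : Subsingleton (GA (baseHom k X) (CohB1.tensorPow E m)) :=
    inferInstanceAs (Subsingleton Γ(CohB1.tensorPow E m, ⊤))
  exact (CurveRR24.hhZero k (CohB1.tensorPow E m)).toEquiv.subsingleton

end Groth.Agent.RCVan24
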