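import Mathlib
import Groth.Prelude.Def_CAlgX

/-!
# Monomials in generators of an ideal modulo the next power
-/

set_option autoImplicit false

universe u v w

open MvPolynomial

namespace Groth.Agent.RCVan24

variable {A : Type u} [CommRing A] {ι : Type w}

/-- Induction on symmetric powers. -/
@[elab_as_elim]
theorem symInd {motive : ∀ {j : ℕ}, Sym ι j → Prop} (nil : motive (Sym.nil : Sym ι 0))
    (cons : ∀ {j : ℕ} (i : ι) (α : Sym ι j), motive α → motive (i ::ₛ α)) : ∀ {j : ℕ} (α : Sym ι j), motive α := by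
  intro j
  induction j with
  | zero => intro α; obtain rfl := Sym.eq_nil_of_card_zero α; exact nil
  | succ j ih =>
    intro α
    obtain ⟨i, α', rfl⟩ := α.exists_eq_cons_of_succ
    exact cons i α' (ih α')

/-- The monomial of a multiset of indices. -/
def mon (x : ι → A) {j : ℕ} (α : Sym ι j) : A := ((α : Multiset ι).map x).prod

theorem mon_cons (x : ι → A) {j : ℕ} (i : ι) (α : Sym ι j) : mon x (i ::ₛ α) = x i * mon x α := by
  rw [mon, mon, Sym.coe_cons, Multiset.map_cons, Multiset.prod_cons]

theorem mon_nil (x : ι → A) : mon x (Sym.nil : Sym ι 0) = 1 := by simp [mon]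

theorem mon_mem {I : Ideal A} {x : ι → A} (hx : ∀ i, x i ∈ I) : ∀ {j : ℕ} (α : Sym ι j), mon x α ∈ I ^ j := by
  intro j α
  induction α using symInd with
  | nil => simp
  | cons i α ih => rw [mon_cons, pow_succ']; exact Ideal.mul_mem_mul (hx i) ih

theorem mon_congr {I : Ideal A} {x y : ι → A} (hx : ∀ i, x i ∈ I) (hy : ∀ i, y i ∈ I)
    (h : ∀ i, x i - y i ∈ I ^ 2) : ∀ {j : ℕ} (α : Sym ι j), mon x α - mon y α ∈ I ^ (j + 1) := by
  intro j α
  induction α using symInd with
  | nil => simp [mon_nil]
  | @cons m i α ih =>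
    rw [mon_cons, mon_cons, show x i * mon x α - y i * mon y α =
      (x i - y i) * mon x α + y i * (mon x α - mon y α) by ring]
    refine add_mem ?_ ?_
    · rw [show m + 1 + 1 = 2 + m by omega, pow_add]
      exact Ideal.mul_mem_mul (h i) (mon_mem hx α)
    · rw [pow_succ' I (m + 1)]
      exact Ideal.mul_mem_mul (hy i) ih

theorem mon_mul (u x : ι → A) {j : ℕ} (α : Sym ι j) : mon (fun i => u i * x i) α = mon u α * mon x α := by
  simp [mon, Multiset.prod_map_mul]

theorem mon_pow (s : A) (w : ι → ℕ) {j : ℕ} (α : Sym ι j) :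
    mon (fun i => s ^ w i) α = s ^ ((α : Multiset ι).map w).sum := by
  induction α using symInd with
  | nil => simp [mon_nil]
  | cons i α ih => rw [mon_cons, ih, ← pow_add, Sym.coe_cons, Multiset.map_cons, Multiset.sum_cons]

theorem span_pow_le (x : ι → A) :
    ∀ j : ℕ, Ideal.span (Set.range x) ^ j ≤ Ideal.span (Set.range fun α : Sym ι j => mon x α) := by
  intro j
  induction j with
  | zero =>
    rw [pow_zero, Ideal.one_eq_top]
    have h1 : (1 : A) ∈ Ideal.span (Set.range fun α : Sym ι 0 => mon x α) :=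
      Ideal.subset_span (Set.mem_range.2 ⟨Sym.nil, mon_nil x⟩)
    rw [(Ideal.eq_top_iff_one _).2 h1]
  | succ j ih =>
    rw [pow_succ']
    refine (Ideal.mul_mono_right ih).trans ?_
    rw [Ideal.span_mul_span', Ideal.span_le]
    rintro _ ⟨_, ⟨i, rfl⟩, _, ⟨α, rfl⟩, rfl⟩
    exact Ideal.subset_span ⟨i ::ₛ α, mon_cons x i α⟩

theorem pow_le_sup {I X : Ideal A} (hX : X ≤ I) (h : I ≤ X ⊔ I ^ 2) : ∀ j, I ^ j ≤ X ^ j ⊔ I ^ (j + 1) := by
  intro j
  induction j with
  | zero => simp
  | succ j ih =>
    rw [pow_succ]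
    refine (Ideal.mul_mono_left ih).trans ?_
    rw [Ideal.sup_mul]
    refine sup_le ((Ideal.mul_mono_right h).trans ?_) (le_sup_of_le_right (by rw [← pow_succ]))
    rw [Ideal.mul_sup, ← pow_succ]
    refine sup_le le_sup_left (le_sup_of_le_right ?_)
    refine (Ideal.mul_mono_left (Ideal.pow_right_mono hX j)).trans ?_
    rw [← pow_add]

theorem prod_X_eq [DecidableEq ι] (R : Type v) [CommRing R] {j : ℕ} (α : Sym ι j) :
    mon (fun i => (X i : MvPolynomial ι R)) α = monomial (Multiset.toFinsupp (α : Multiset ι)) 1 := by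
  induction α using symInd with
  | nil => simp [mon_nil]
  | cons i α ih =>
    rw [mon_cons, ih, X, monomial_mul, one_mul]
    rw [Sym.coe_cons, ← Multiset.singleton_add, Multiset.toFinsupp_add, Multiset.toFinsupp_singleton]

theorem mon_isHomogeneous {σ : Type v} {L : ι → MvPolynomial σ A} (hL : ∀ i, (L i).IsHomogeneous 1) :
    ∀ {j : ℕ} (α : Sym ι j), (mon L α).IsHomogeneous j := by
  intro j α
  induction α using symInd with
  | nil => rw [mon_nil]; exact isHomogeneous_one _ _
  | @cons m i α ih =>
    rw [mon_cons, show m.succ = 1 + m by omega]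
    exact (hL i).mul ih

theorem map_mon {B : Type v} [CommRing B] (f : A →+* B) (x : ι → A) {j : ℕ} (α : Sym ι j) :
    f (mon x α) = mon (fun i => f (x i)) α := by
  simp [mon, map_multiset_prod, Multiset.map_map, Function.comp_def]

/-- Coefficients of a vanishing form in generators congruent to a basis of `I/I²` lie in the ideal. -/
theorem map_eq_zero_of_mem {B : Type v} [CommRing B] (φ : A →+* B) [Fintype ι] [DecidableEq ι] {n : ℕ} (a : Fin n → A)
    (hker : Ideal.span (Set.range a) = RingHom.ker φ) (hq : CAlgX.IsQuasiRegular a) (x : ι → A)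
    (M : ι → Fin n → A) (hM : ∀ i, x i = ∑ l, M i l * a l) (N : Fin n → ι → B)
    (hMN : ∀ i i', ∑ l, φ (M i l) * N l i' = if i = i' then 1 else 0) {j : ℕ} [Fintype (Sym ι j)] (E : Sym ι j → A)
    (hE : ∑ α, E α * mon x α ∈ RingHom.ker φ ^ (j + 1)) (α : Sym ι j) : φ (E α) = 0 := by
  classical
  let L : ι → MvPolynomial (Fin n) A := fun i => ∑ l, C (M i l) * X l
  let P : MvPolynomial (Fin n) A := ∑ α, C (E α) * mon L α
  have hPh : P.IsHomogeneous j := by
    refine IsHomogeneous.sum _ _ _ fun α _ => ?_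
    refine (mon_isHomogeneous (fun i => IsHomogeneous.sum _ _ _ fun l _ => ?_) α).C_mul _
    exact (isHomogeneous_X A l).C_mul _
  have hev : eval a P = ∑ α, E α * mon x α := by
    simp only [P, map_sum, map_mul, eval_C, map_mon]
    refine Finset.sum_congr rfl fun α _ => congrArg (E α * ·) ?_
    exact congrArg (fun y => mon y α) (funext fun i => by simp [L, hM i])
  have hco : ∀ d, φ (P.coeff d) = 0 := fun d => by
    have := hq j P hPh (by rw [hev, hker]; exact hE) d
    rwa [hker] at this
  have hP0 : MvPolynomial.map φ P = 0 := by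
    ext d; rw [coeff_map, coeff_zero]; exact hco d
  let σ : MvPolynomial (Fin n) B →ₐ[B] MvPolynomial ι B := aeval fun l => ∑ i, C (N l i) * X i
  have hσ : σ (MvPolynomial.map φ P) = ∑ α, C (φ (E α)) * monomial (Multiset.toFinsupp (α : Multiset ι)) 1 := by
    simp only [P, map_sum, map_mul, map_C, map_mon]
    refine Finset.sum_congr rfl fun α _ => ?_
    rw [← prod_X_eq B α]
    congr 1
    · exact σ.commutes _
    · rw [show σ (mon (fun i => MvPolynomial.map φ (L i)) α) = (σ : MvPolynomial (Fin n) B →+* MvPolynomial ι B)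
        (mon (fun i => MvPolynomial.map φ (L i)) α) from rfl, map_mon]
      refine congrArg (fun y => mon y α) (funext fun i => ?_)
      show σ (MvPolynomial.map φ (L i)) = X i
      simp only [L, map_sum, map_mul, map_C, map_X, σ, aeval_C, aeval_X, algebraMap_eq, Finset.mul_sum]
      rw [Finset.sum_comm]
      simp only [← mul_assoc, ← map_mul, ← Finset.sum_mul, ← map_sum, hMN]
      simp
  rw [hP0, map_zero] at hσ
  have := congrArg (coeff (Multiset.toFinsupp (α : Multiset ι))) hσ
  rw [coeff_zero, coeff_sum, Finset.sum_eq_single α] at this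
  · simpa [coeff_C_mul, coeff_monomial] using this.symm
  · intro β _ hβ
    rw [coeff_C_mul, coeff_monomial, if_neg (fun h => hβ (Sym.coe_injective (Multiset.toFinsupp.injective h)))]
    exact mul_zero _
  · simp

end Groth.Agent.RCVan24
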