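import Groth.Agent.RCVan24.Frames
import Groth.Agent.RCVan24.Algebra
import Groth.Agent.FundLocal.SmoothImm
import Groth.Agent.Nrm16Lib.RegImm

/-!
# Vanishing to all orders along a rational curve
-/

set_option autoImplicit false
set_option linter.style.haveILetI false
set_option linter.unusedSectionVars false
set_option backward.isDefEq.respectTransparency false
set_option backward.isDefEq.respectTransparency.types false
set_option maxHeartbeats 2000000

universe u

open CategoryTheory CategoryTheory.Limits AlgebraicGeometry Opposite TopologicalSpace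
open Groth.Agent.Coherent Groth.Agent.PicLib Groth.Agent.AmpleLib Groth.Agent.P1SC24 Groth.Agent.EmbLib24

noncomputable section

namespace Groth.Agent.RCVan24

variable {k : Type u} [Field k] {Y : Scheme.{u}} (g : CohB1.ProjSpace 1 k ⟶ Y) [IsClosedImmersion g]
  (F : Y.Modules)

/-- An affine open with a regular sequence for the curve and a basis of the module. -/
structure Ch (V : Y.Opens) where
  aff : IsAffineOpen V
  n : ℕ
  a : Fin n → FundLocal.idl g V
  span : Ideal.span (Set.range fun l => (a l).1) = FundLocal.idl g V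
  qr : CAlgX.IsQuasiRegular fun l => (a l).1
  cbasis : IsBasisOn (Omega.conormal g) (g ⁻¹ᵁ V)
    (fun l : ULift.{u} (Fin n) => (FundLocal.cls g aff (a l.down) : Γ(Omega.conormal g, g ⁻¹ᵁ V)))
  β : Type u
  [fin : Fintype β]
  bF : β → Γ(F, V)
  fbasis : IsBasisOn F V bF

attribute [instance] Ch.fin

variable {g F}

/-- A chart with a regular sequence restricts to basic opens. -/
theorem Ch.basicOpen {V : Y.Opens} (C : Ch g F V) (r : Γ(Y, V)) : Nonempty (Ch g F (Y.basicOpen r)) := by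
  let V' := Y.basicOpen r
  have hle : V' ≤ V := Y.basicOpen_le r
  have hV' : IsAffineOpen V' := C.aff.basicOpen r
  let res := (Y.presheaf.map (homOfLE hle).op).hom
  have hker : ∀ (W : Y.Opens) (hW : IsAffineOpen W), g.ker.ideal ⟨W, hW⟩ = FundLocal.idl g W := fun W hW =>
    Scheme.Hom.ker_apply g ⟨W, hW⟩
  have hspan : Ideal.span (Set.range fun l => res (C.a l).1) = FundLocal.idl g V' := by
    rw [← hker V' hV', ← Scheme.IdealSheafData.map_ideal g.ker (U := ⟨V', hV'⟩) (V := ⟨V, C.aff⟩) hle,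
      hker V C.aff]
    refine Eq.trans ?_ (congrArg (Ideal.map res) C.span)
    rw [Ideal.map_span]
    exact congrArg Ideal.span (Set.range_comp res (fun l => (C.a l).1))
  refine ⟨{ aff := hV', n := C.n, a := fun l => ⟨res (C.a l).1, FundLocal.res_mem_idl g hle (C.a l).2⟩,
            span := hspan, qr := ?_, cbasis := ?_, β := C.β, bF := fun b => resM F hle (C.bF b), fbasis := ?_ }⟩
  · haveI := C.aff.isLocalization_basicOpen r
    exact Nrm16Lib.isQuasiRegular_localization (Submonoid.powers r) Γ(Y, V') C.qr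
  · intro W hW
    convert C.cbasis (hW.trans (g.preimage_mono hle)) using 2
    refine Finset.sum_congr rfl fun l _ => congrArg (_ • ·) ?_
    refine (congrArg (resM _ hW) (FundLocal.cls_res g C.aff hV' hle (C.a l.down)).symm).trans ?_
    exact resM_resM _ _ _ _
  · intro W hW
    convert C.fbasis (hW.trans hle) using 2
    exact Finset.sum_congr rfl fun b _ => congrArg (_ • ·) (resM_resM _ _ _ _)

theorem exists_ch_le {V O : Y.Opens} (C : Ch g F V) {y : Y} (hy : y ∈ V) (hyO : y ∈ O) :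
    ∃ V', y ∈ V' ∧ V' ≤ V ⊓ O ∧ Nonempty (Ch g F V') := by
  obtain ⟨r, hle, hyr⟩ := C.aff.exists_basicOpen_le (V := V ⊓ O) ⟨y, hy, hyO⟩ hy
  exact ⟨Y.basicOpen r, hyr, hle, C.basicOpen r⟩

/-- Restriction preserves the filtration. -/
theorem res_mem_smul {V V' : Y.Opens} (h : V' ≤ V) {m : ℕ} {z : Γ(F, V)}
    (hz : z ∈ (FundLocal.idl g V ^ m) • (⊤ : Submodule Γ(Y, V) Γ(F, V))) :
    resM F h z ∈ (FundLocal.idl g V' ^ m) • (⊤ : Submodule Γ(Y, V') Γ(F, V')) := by
  have hle : (FundLocal.idl g V).map (Y.presheaf.map (homOfLE h).op).hom ≤ FundLocal.idl g V' :=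
    Ideal.map_le_iff_le_comap.2 fun a ha => FundLocal.res_mem_idl g h ha
  induction hz using Submodule.smul_induction_on' with
  | smul r hr z _ =>
    rw [resM_smul]
    refine Submodule.smul_mem_smul (Ideal.pow_right_mono hle m ?_) Submodule.mem_top
    rw [← Ideal.map_pow]
    exact Ideal.mem_map_of_mem _ hr
  | add a _ b _ ha hb => rw [map_add]; exact Submodule.add_mem _ ha hb

/-- Coordinates of an element of `J • ⊤` lie in `J`. -/
theorem coef_mem {V : Y.Opens} (C : Ch g F V) {J : Ideal Γ(Y, V)} {z : Γ(F, V)}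
    (hz : z ∈ J • (⊤ : Submodule Γ(Y, V) Γ(F, V))) (b : C.β) : C.fbasis.coef le_rfl z b ∈ J := by
  induction hz using Submodule.smul_induction_on' with
  | smul r hr z _ => rw [C.fbasis.coef_smul]; exact Ideal.mul_mem_right _ _ hr
  | add x _ y _ hx hy => rw [C.fbasis.coef_add]; exact add_mem hx hy

variable (φI : Frame (Omega.conormal g)) (φF : Frame ((Scheme.Modules.pullback g).obj F))

/-- Lifts of the frames. -/
def Lifts {V : Y.Opens} (hV : IsAffineOpen V) (c : Fin (1 + 1)) (hc : g ⁻¹ᵁ V ≤ chart 1 k c)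
    (x : φI.I → FundLocal.idl g V) (f : φF.I → Γ(F, V)) : Prop :=
  (∀ i, (FundLocal.cls g hV (x i) : Γ(Omega.conormal g, g ⁻¹ᵁ V)) = resM _ hc (φI.b c i)) ∧
    ∀ l, pullSec g (f l) = resM _ hc (φF.b c l)

/-- An expansion of degree `j`. -/
def expand {V : Y.Opens} {j : ℕ} [Fintype (Sym φI.I j)] (x : φI.I → FundLocal.idl g V) (f : φF.I → Γ(F, V))
    (C : Sym φI.I j × φF.I → Γ(Y, V)) : Γ(F, V) :=
  ∑ p, (C p * mon (fun i => (x i).1) p.1) • f p.2

variable (s : Γ(F, ⊤))

/-- The leading coefficients of degree `j` in a chart. -/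
def Coef (j : ℕ) [Fintype (Sym φI.I j)] {V : Y.Opens} (hV : IsAffineOpen V) (c : Fin (1 + 1))
    (hc : g ⁻¹ᵁ V ≤ chart 1 k c) (C₀ : Sym φI.I j × φF.I → Γ(CohB1.ProjSpace 1 k, g ⁻¹ᵁ V)) : Prop :=
  ∃ (x : φI.I → FundLocal.idl g V) (f : φF.I → Γ(F, V)) (C : Sym φI.I j × φF.I → Γ(Y, V)),
    Lifts φI φF hV c hc x f ∧ (∀ p, (g.app V).hom (C p) = C₀ p) ∧
      resM F le_top s - expand φI φF x f C ∈ (FundLocal.idl g V ^ (j + 1)) • (⊤ : Submodule Γ(Y, V) Γ(F, V))

variable {φI φF s} {V : Y.Opens} {c : Fin (1 + 1)} {hc : g ⁻¹ᵁ V ≤ chart 1 k c}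

theorem surjective_app (hV : IsAffineOpen V) : Function.Surjective (g.app V).hom :=
  g.app_surjective V hV

theorem exists_coords (C : Ch g F V) (x : FundLocal.idl g V) :
    ∃ d : Fin C.n → Γ(Y, V), x.1 = ∑ l, d l * (C.a l).1 ∧
      (FundLocal.cls g C.aff x : Γ(Omega.conormal g, g ⁻¹ᵁ V)) =
        ∑ l, (g.app V).hom (d l) • (FundLocal.cls g C.aff (C.a l) : Γ(Omega.conormal g, g ⁻¹ᵁ V)) := by
  obtain ⟨d, hd⟩ := Ideal.mem_span_range_iff_exists_fun.1 (C.span.ge x.2)
  exact ⟨d, hd.symm, FundLocal.cls_sum g C.aff d C.a x hd.symm⟩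

theorem coords_inj (C : Ch g F V) {d d' : Fin C.n → Γ(CohB1.ProjSpace 1 k, g ⁻¹ᵁ V)}
    (h : ∑ l, d l • (FundLocal.cls g C.aff (C.a l) : Γ(Omega.conormal g, g ⁻¹ᵁ V)) =
      ∑ l, d' l • (FundLocal.cls g C.aff (C.a l) : Γ(Omega.conormal g, g ⁻¹ᵁ V))) : d = d' := by
  have key : ∀ e : Fin C.n → Γ(CohB1.ProjSpace 1 k, g ⁻¹ᵁ V),
      (∑ i : ULift.{u} (Fin C.n), e i.down • resM (Omega.conormal g) (le_refl (g ⁻¹ᵁ V))
        (FundLocal.cls g C.aff (C.a i.down) : Γ(Omega.conormal g, g ⁻¹ᵁ V))) =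
      ∑ l, e l • (FundLocal.cls g C.aff (C.a l) : Γ(Omega.conormal g, g ⁻¹ᵁ V)) := fun e =>
    Fintype.sum_equiv Equiv.ulift _ _ fun i => by rw [resM_self]; rfl
  have := (C.cbasis le_rfl).1 (a₁ := fun i => d i.down) (a₂ := fun i => d' i.down) ((key d).trans (h.trans (key d').symm))
  exact funext fun l => congrFun this ⟨l⟩

theorem sub_mem_sq (C : Ch g F V) {x x' : FundLocal.idl g V}
    (h : (FundLocal.cls g C.aff x : Γ(Omega.conormal g, g ⁻¹ᵁ V)) = FundLocal.cls g C.aff x') :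
    x.1 - x'.1 ∈ FundLocal.idl g V ^ 2 := by
  obtain ⟨d, hd, hdc⟩ := exists_coords C x
  obtain ⟨d', hd', hdc'⟩ := exists_coords C x'
  have he := coords_inj C (hdc.symm.trans (h.trans hdc'))
  rw [hd, hd', ← Finset.sum_sub_distrib, pow_two]
  refine sum_mem fun l _ => ?_
  rw [← sub_mul]
  refine Ideal.mul_mem_mul ?_ (C.a l).2
  show (g.app V).hom (d l - d' l) = 0
  rw [map_sub, congrFun he l, sub_self]

theorem sub_mem_smul (C : Ch g F V) {f f' : Γ(F, V)} (h : pullSec g f = pullSec g f') :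
    f - f' ∈ FundLocal.idl g V • (⊤ : Submodule Γ(Y, V) Γ(F, V)) := by
  have hexp : ∀ f : Γ(F, V), pullSec g f = ∑ b, (g.app V).hom (C.fbasis.coef le_rfl f b) • pullSec g (C.bF b) := by
    intro f
    conv_lhs => rw [← C.fbasis.coef_spec le_rfl f]
    show ((Scheme.Modules.pullbackPushforwardAdjunction g).unit.app F).app V _ = _
    rw [map_sum]
    refine Finset.sum_congr rfl fun b _ => ?_
    rw [resM_self]
    exact pullSec_smul g _ _
  have he := ((C.fbasis.pull g) le_rfl).1 (a₁ := fun b => (g.app V).hom (C.fbasis.coef le_rfl f b))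
    (a₂ := fun b => (g.app V).hom (C.fbasis.coef le_rfl f' b)) (by
      simp only [resM_self]; exact (hexp f).symm.trans (h.trans (hexp f')))
  rw [show f - f' = ∑ b, (C.fbasis.coef le_rfl f b • resM F le_rfl (C.bF b) -
      C.fbasis.coef le_rfl f' b • resM F le_rfl (C.bF b)) by
    rw [Finset.sum_sub_distrib, C.fbasis.coef_spec le_rfl f, C.fbasis.coef_spec le_rfl f']]
  refine sum_mem fun b _ => ?_
  rw [← sub_smul]
  refine Submodule.smul_mem_smul ?_ Submodule.mem_top
  show (g.app V).hom _ = 0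
  rw [map_sub, show (g.app V).hom (C.fbasis.coef le_rfl f b) = (g.app V).hom (C.fbasis.coef le_rfl f' b) from
    congrFun he b, sub_self]

variable {j : ℕ} [Fintype (Sym φI.I j)]

theorem expand_sub (C : Ch g F V) {x x' : φI.I → FundLocal.idl g V} {f f' : φF.I → Γ(F, V)}
    (h : Lifts φI φF C.aff c hc x f) (h' : Lifts φI φF C.aff c hc x' f') (D : Sym φI.I j × φF.I → Γ(Y, V)) :
    expand φI φF x f D - expand φI φF x' f' D ∈
      (FundLocal.idl g V ^ (j + 1)) • (⊤ : Submodule Γ(Y, V) Γ(F, V)) := by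
  rw [expand, expand, ← Finset.sum_sub_distrib]
  refine sum_mem fun p _ => ?_
  have h1 := mon_congr (fun i => (x i).2) (fun i => (x' i).2)
    (fun i => sub_mem_sq C ((h.1 i).trans (h'.1 i).symm)) p.1
  have h2 := sub_mem_smul C ((h.2 p.2).trans (h'.2 p.2).symm)
  rw [show (D p * mon (fun i => (x i).1) p.1) • f p.2 - (D p * mon (fun i => (x' i).1) p.1) • f' p.2 =
      (D p * (mon (fun i => (x i).1) p.1 - mon (fun i => (x' i).1) p.1)) • f p.2 +
        (D p * mon (fun i => (x' i).1) p.1) • (f p.2 - f' p.2) by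
    rw [mul_sub, sub_smul, smul_sub]; abel]
  refine add_mem (Submodule.smul_mem_smul (Ideal.mul_mem_left _ _ h1) Submodule.mem_top) ?_
  rw [pow_succ, ← smul_eq_mul (FundLocal.idl g V ^ j) (FundLocal.idl g V), Submodule.smul_assoc]
  exact Submodule.smul_mem_smul (Ideal.mul_mem_left _ _ (mon_mem (fun i => (x' i).2) p.1)) h2

theorem Lifts.res {hV : IsAffineOpen V} {x : φI.I → FundLocal.idl g V} {f : φF.I → Γ(F, V)}
    (h : Lifts φI φF hV c hc x f) {V' : Y.Opens} (hV' : IsAffineOpen V') (hle : V' ≤ V) :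
    Lifts φI φF hV' c ((g.preimage_mono hle).trans hc)
      (fun i => ⟨Y.presheaf.map (homOfLE hle).op (x i).1, FundLocal.res_mem_idl g hle (x i).2⟩)
      (fun l => resM F hle (f l)) := by
  refine ⟨fun i => ?_, fun l => ?_⟩
  · rw [← FundLocal.cls_res g hV hV' hle (x i)]
    refine (congrArg (resM _ _) (h.1 i)).trans ?_
    exact resM_resM _ _ _ _
  · rw [← resM_pullSec g hle (f l), h.2 l, resM_resM]

/-- Coefficients restrict. -/
theorem Coef.res {hV : IsAffineOpen V} {C₀ : Sym φI.I j × φF.I → Γ(CohB1.ProjSpace 1 k, g ⁻¹ᵁ V)}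
    (h : Coef φI φF s j hV c hc C₀) {V' : Y.Opens} (hV' : IsAffineOpen V') (hle : V' ≤ V) :
    Coef φI φF s j hV' c ((g.preimage_mono hle).trans hc)
      (fun p => (CohB1.ProjSpace 1 k).presheaf.map (homOfLE (g.preimage_mono hle)).op (C₀ p)) := by
  obtain ⟨x, f, C, hl, hC, hmem⟩ := h
  refine ⟨_, _, fun p => Y.presheaf.map (homOfLE hle).op (C p), hl.res hV' hle, fun p => ?_, ?_⟩
  · show _ = (CohB1.ProjSpace 1 k).presheaf.map _ (C₀ p)
    rw [← hC p]
    exact ConcreteCategory.congr_hom (g.naturality (homOfLE hle).op) (C p)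
  · have h1 := res_mem_smul hle hmem
    rw [map_sub, resM_resM] at h1
    convert h1 using 2
    rw [expand, expand, map_sum]
    refine Finset.sum_congr rfl fun p _ => ?_
    rw [resM_smul, map_mul, map_mon]

/-- The change from one frame to the local regular sequence is invertible. -/
theorem exists_matrix (C : Ch g F V) (hc : g ⁻¹ᵁ V ≤ chart 1 k c) :
    ∃ B : Fin C.n → φI.I → Γ(CohB1.ProjSpace 1 k, g ⁻¹ᵁ V),
      (∀ l, (FundLocal.cls g C.aff (C.a l) : Γ(Omega.conormal g, g ⁻¹ᵁ V)) = ∑ i, B l i • resM _ hc (φI.b c i)) ∧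
      ∀ (A : φI.I → Fin C.n → Γ(CohB1.ProjSpace 1 k, g ⁻¹ᵁ V)),
        (∀ i, resM _ hc (φI.b c i) = ∑ l, A i l • (FundLocal.cls g C.aff (C.a l) : Γ(Omega.conormal g, g ⁻¹ᵁ V))) →
        ∀ i i', ∑ l, A i l * B l i' = @ite _ (i = i') (Classical.propDecidable _) 1 0 := by
  classical
  choose B hB using fun l => (φI.basis c hc).2 (FundLocal.cls g C.aff (C.a l) : Γ(Omega.conormal g, g ⁻¹ᵁ V))
  beta_reduce at hB
  refine ⟨B, fun l => (hB l).symm, fun A hA i i' => ?_⟩
  have h := congrFun ((φI.basis c hc).1 (a₁ := fun m => ∑ l, A i l * B l m) (a₂ := fun m => if m = i then 1 else 0) ?_) i'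
  · rw [h]
    by_cases hii : i = i'
    · subst hii; simp
    · simp [hii, Ne.symm hii]
  · beta_reduce
    simp only [ite_smul, one_smul, zero_smul, Finset.sum_ite_eq', Finset.mem_univ, if_true, Finset.sum_smul,
      mul_smul]
    rw [Finset.sum_comm, hA i]
    refine Finset.sum_congr rfl fun l _ => ?_
    rw [← Finset.smul_sum, hB l]

/-- Coefficients are unique. -/
theorem Coef.unique (C : Ch g F V) {C₀ C₁ : Sym φI.I j × φF.I → Γ(CohB1.ProjSpace 1 k, g ⁻¹ᵁ V)}
    (h₀ : Coef φI φF s j C.aff c hc C₀) (h₁ : Coef φI φF s j C.aff c hc C₁) : C₀ = C₁ := by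
  classical
  obtain ⟨x, f, D₀, hl, hD₀, hm₀⟩ := h₀
  obtain ⟨x', f', D₁, hl', hD₁, hm₁⟩ := h₁
  let D := fun p => D₀ p - D₁ p
  have hD : expand φI φF x f D ∈ (FundLocal.idl g V ^ (j + 1)) • (⊤ : Submodule Γ(Y, V) Γ(F, V)) := by
    have e : expand φI φF x f D = (resM F le_top s - expand φI φF x' f' D₁) - (resM F le_top s - expand φI φF x f D₀) -
        (expand φI φF x f D₁ - expand φI φF x' f' D₁) := by
      have e1 : expand φI φF x f D = expand φI φF x f D₀ - expand φI φF x f D₁ := by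
        simp only [expand, D, sub_mul, sub_smul, Finset.sum_sub_distrib]
      rw [e1]; abel
    rw [e]
    exact sub_mem (sub_mem hm₁ hm₀) (expand_sub C hl hl' D₁)
  choose M hM hMc using fun i => exists_coords C (x i)
  obtain ⟨B, -, hB⟩ := exists_matrix (φI := φI) C hc
  have hMB := hB (fun i l => (g.app V).hom (M i l)) fun i => (hl.1 i).symm.trans (hMc i)
  let m : φF.I → C.β → Γ(Y, V) := fun l => C.fbasis.coef le_rfl (f l)
  have key : ∀ (b : C.β) (α : Sym φI.I j), ∑ l, (g.app V).hom (D (α, l)) * (g.app V).hom (m l b) = 0 := by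
    intro b α
    have h1 := coef_mem C hD b
    have h2 : C.fbasis.coef le_rfl (expand φI φF x f D) b =
        ∑ α, (∑ l, D (α, l) * m l b) * mon (fun i => (x i).1) α := by
      let L : Γ(F, V) →ₗ[Γ(Y, V)] Γ(Y, V) :=
        { toFun := fun z => C.fbasis.coef le_rfl z b
          map_add' := fun z z' => congrFun (C.fbasis.coef_add le_rfl z z') b
          map_smul' := fun r z => congrFun (C.fbasis.coef_smul le_rfl r z) b }
      show L (expand φI φF x f D) = _
      rw [expand, map_sum, Fintype.sum_prod_type]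
      refine Finset.sum_congr rfl fun α _ => ?_
      rw [Finset.sum_mul]
      refine Finset.sum_congr rfl fun l _ => ?_
      rw [map_smul, smul_eq_mul]
      show D (α, l) * mon _ α * m l b = _
      ring
    rw [h2] at h1
    have h3 := map_eq_zero_of_mem (g.app V).hom (fun l => (C.a l).1) C.span C.qr (fun i => (x i).1) M hM B
      (fun i i' => (hMB i i').trans (by congr)) (fun α => ∑ l, D (α, l) * m l b) h1 α
    simpa only [map_sum, map_mul] using h3
  funext p
  obtain ⟨α, l⟩ := p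
  have h4 : (fun l => (g.app V).hom (D (α, l))) = 0 := by
    refine (φF.basis c hc).1 ?_
    show ∑ l, (g.app V).hom (D (α, l)) • _ = ∑ l, (0 : Γ(CohB1.ProjSpace 1 k, g ⁻¹ᵁ V)) • _
    simp only [zero_smul, Finset.sum_const_zero]
    have hexp : ∀ l, resM _ hc (φF.b c l) = ∑ b, (g.app V).hom (m l b) • pullSec g (C.bF b) := fun l => by
      rw [← hl.2 l]
      conv_lhs => rw [← C.fbasis.coef_spec le_rfl (f l)]
      show ((Scheme.Modules.pullbackPushforwardAdjunction g).unit.app F).app V _ = _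
      rw [map_sum]
      refine Finset.sum_congr rfl fun b _ => ?_
      rw [resM_self]
      exact pullSec_smul g _ _
    simp only [hexp, Finset.smul_sum, smul_smul]
    rw [Finset.sum_comm]
    refine Finset.sum_eq_zero fun b _ => ?_
    rw [← Finset.sum_smul, key b α, zero_smul]
  have h5 := congrFun h4 l
  beta_reduce at h5
  rw [map_sub, hD₀, hD₁, Pi.zero_apply, sub_eq_zero] at h5
  exact h5

/-- Coefficients exist at the next degree. -/
theorem exists_coef (C : Ch g F V) (hc : g ⁻¹ᵁ V ≤ chart 1 k c)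
    (hs : resM F le_top s ∈ (FundLocal.idl g V ^ j) • (⊤ : Submodule Γ(Y, V) Γ(F, V))) :
    ∃ C₀, Coef φI φF s j C.aff c hc C₀ := by
  classical
  let I := FundLocal.idl g V
  obtain ⟨B, hB, -⟩ := exists_matrix (φI := φI) C hc
  choose A hA using fun i => (C.cbasis le_rfl).2 (resM (Omega.conormal g) hc (φI.b c i))
  choose A' hA' using fun (i : φI.I) (l : Fin C.n) => surjective_app (g := g) C.aff (A i ⟨l⟩)
  let x : φI.I → I := fun i => ⟨∑ l, A' i l * (C.a l).1, sum_mem fun l _ => Ideal.mul_mem_left _ _ (C.a l).2⟩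
  have hx : ∀ i, (FundLocal.cls g C.aff (x i) : Γ(Omega.conormal g, g ⁻¹ᵁ V)) = resM _ hc (φI.b c i) := fun i => by
    refine (FundLocal.cls_sum g C.aff (A' i) C.a (x i) rfl).trans ?_
    rw [← hA i]
    refine (Fintype.sum_equiv Equiv.ulift _ _ fun l => ?_).symm
    show A i l • resM (Omega.conormal g) (le_refl (g ⁻¹ᵁ V))
      (FundLocal.cls g C.aff (C.a l.down) : Γ(Omega.conormal g, g ⁻¹ᵁ V)) = _
    rw [resM_self]
    exact congrArg (· • _) (hA' i l.down).symm
  choose Q hQ using fun l => ((C.fbasis.pull g) le_rfl).2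
    (resM ((Scheme.Modules.pullback g).obj F) hc (φF.b c l))
  choose Q' hQ' using fun (l : φF.I) (b : C.β) => surjective_app (g := g) C.aff (Q l b)
  let f : φF.I → Γ(F, V) := fun l => ∑ b, Q' l b • C.bF b
  have hsum : ∀ {κ : Type u} [Fintype κ] (e : κ → Γ(F, V)), pullSec g (∑ b, e b) = ∑ b, pullSec g (e b) :=
    fun e => map_sum (((Scheme.Modules.pullbackPushforwardAdjunction g).unit.app F).app V).hom e _
  have hf : ∀ l, pullSec g (f l) = resM _ hc (φF.b c l) := fun l => by
    rw [← hQ l, hsum]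
    refine Finset.sum_congr rfl fun b _ => ?_
    rw [resM_self, pullSec_smul]
    exact congrArg (· • _) (hQ' l b)
  have hIx : I ≤ Ideal.span (Set.range fun i => (x i).1) ⊔ I ^ 2 := by
    refine C.span.ge.trans (Ideal.span_le.2 ?_)
    rintro _ ⟨l, rfl⟩
    choose B' hB' using fun i => surjective_app (g := g) C.aff (B l i)
    let y : I := ⟨∑ i, B' i * (x i).1, sum_mem fun i _ => Ideal.mul_mem_left _ _ (x i).2⟩
    have hy : (FundLocal.cls g C.aff y : Γ(Omega.conormal g, g ⁻¹ᵁ V)) = FundLocal.cls g C.aff (C.a l) := by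
      obtain ⟨d, hd, hdc⟩ := exists_coords C y
      choose M hM hMc using fun i => exists_coords C (x i)
      have hy2 : y.1 = ∑ l', (∑ i, B' i * M i l') * (C.a l').1 := by
        show ∑ i, B' i * (x i).1 = _
        simp only [hM, Finset.mul_sum, Finset.sum_mul, mul_assoc]
        exact Finset.sum_comm
      refine (FundLocal.cls_sum g C.aff _ C.a y hy2).trans ?_
      rw [hB l]
      have e1 : ∀ i, B l i • resM (Omega.conormal g) hc (φI.b c i) =
          ∑ l', ((g.app V).hom (B' i) * (g.app V).hom (M i l')) •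
            (FundLocal.cls g C.aff (C.a l') : Γ(Omega.conormal g, g ⁻¹ᵁ V)) := fun i => by
        rw [← hx i, hMc i, Finset.smul_sum, hB' i]
        simp only [smul_smul]
      simp only [e1, map_sum, map_mul, Finset.sum_smul]
      exact Finset.sum_comm
    have hd : (C.a l).1 - y.1 ∈ I ^ 2 := sub_mem_sq C hy.symm
    show (C.a l).1 ∈ Ideal.span (Set.range fun i => (x i).1) ⊔ I ^ 2
    rw [show (C.a l).1 = y.1 + ((C.a l).1 - y.1) by abel]
    refine Submodule.add_mem_sup ?_ hd
    exact sum_mem fun i _ => Ideal.mul_mem_left _ _ (Ideal.subset_span ⟨i, rfl⟩)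
  have hFs : (⊤ : Submodule Γ(Y, V) Γ(F, V)) ≤ Submodule.span Γ(Y, V) (Set.range f) ⊔ I • ⊤ := by
    intro z _
    rw [← C.fbasis.coef_spec le_rfl z]
    refine sum_mem fun b _ => Submodule.smul_mem _ _ ?_
    rw [resM_self]
    obtain ⟨N, hN⟩ := (φF.basis c hc).2 (pullSec g (C.bF b))
    beta_reduce at hN
    choose N' hN' using fun l => surjective_app (g := g) C.aff (N l)
    have hd : C.bF b - ∑ l, N' l • f l ∈ I • (⊤ : Submodule Γ(Y, V) Γ(F, V)) := sub_mem_smul C (by
      rw [hsum, ← hN]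
      refine Finset.sum_congr rfl fun l _ => ?_
      rw [pullSec_smul, hN' l, hf l])
    rw [show C.bF b = (∑ l, N' l • f l) + (C.bF b - ∑ l, N' l • f l) by abel]
    exact Submodule.add_mem_sup (sum_mem fun l _ => Submodule.smul_mem _ _ (Submodule.subset_span ⟨l, rfl⟩)) hd
  have hXI : Ideal.span (Set.range fun i => (x i).1) ≤ I := Ideal.span_le.2 (by rintro _ ⟨i, rfl⟩; exact (x i).2)
  have hmain : (I ^ j) • (⊤ : Submodule Γ(Y, V) Γ(F, V)) ≤
      Submodule.span Γ(Y, V) (Set.range fun p : Sym φI.I j × φF.I => mon (fun i => (x i).1) p.1 • f p.2) ⊔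
        (I ^ (j + 1)) • ⊤ := by
    refine (Submodule.smul_mono_left (pow_le_sup hXI hIx j)).trans ?_
    rw [Submodule.sup_smul]
    refine sup_le ?_ le_sup_right
    refine (Submodule.smul_mono le_rfl hFs).trans ?_
    rw [Submodule.smul_sup]
    refine sup_le ((Submodule.smul_mono_left (span_pow_le _ j)).trans (le_sup_of_le_left ?_)) (le_sup_of_le_right ?_)
    · show Submodule.span Γ(Y, V) (Set.range fun α : Sym φI.I j => mon (fun i => (x i).1) α) •
        Submodule.span Γ(Y, V) (Set.range f) ≤ _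
      rw [Submodule.span_smul_span]
      refine Submodule.span_le.2 ?_
      rintro _ ⟨_, ⟨α, rfl⟩, _, ⟨l, rfl⟩, rfl⟩
      exact Submodule.subset_span ⟨(α, l), rfl⟩
    · rw [← Submodule.smul_assoc, smul_eq_mul]
      refine Submodule.smul_mono_left ?_
      rw [pow_succ]
      exact Ideal.mul_mono_left (Ideal.pow_right_mono hXI j)
  obtain ⟨u, hu, v, hv, huv⟩ := Submodule.mem_sup.1 (hmain hs)
  obtain ⟨D, hD⟩ := (Submodule.mem_span_range_iff_exists_fun _).1 hu
  refine ⟨fun p => (g.app V).hom (D p), x, f, D, ⟨hx, hf⟩, fun p => rfl, ?_⟩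
  have e : resM F le_top s - expand φI φF x f D = v := by
    rw [← huv, ← hD, expand]
    simp only [mul_smul]
    abel
  rw [e]
  exact hv

/-- If the coefficients vanish, the order of vanishing increases. -/
theorem mem_of_coef_zero (hV : IsAffineOpen V) (h : Coef φI φF s j hV c hc 0) :
    resM F le_top s ∈ (FundLocal.idl g V ^ (j + 1)) • (⊤ : Submodule Γ(Y, V) Γ(F, V)) := by
  obtain ⟨x, f, C, hl, hC, hm⟩ := h
  have he : expand φI φF x f C ∈ (FundLocal.idl g V ^ (j + 1)) • (⊤ : Submodule Γ(Y, V) Γ(F, V)) := by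
    refine sum_mem fun p _ => Submodule.smul_mem_smul ?_ Submodule.mem_top
    rw [pow_succ']
    exact Ideal.mul_mem_mul (hC p) (mon_mem (fun i => (x i).2) p.1)
  simpa using add_mem hm he

/-- Coefficients in the two charts differ by the twists. -/
theorem coef_transition (C : Ch g F V) (h0 : g ⁻¹ᵁ V ≤ chart 1 k 0) (h1 : g ⁻¹ᵁ V ≤ chart 1 k 1)
    (hov : g ⁻¹ᵁ V ≤ overlap k) {C₁ : Sym φI.I j × φF.I → Γ(CohB1.ProjSpace 1 k, g ⁻¹ᵁ V)}
    (h : Coef φI φF s j C.aff 1 h1 C₁) {C₀ : Sym φI.I j × φF.I → Γ(CohB1.ProjSpace 1 k, g ⁻¹ᵁ V)}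
    (h' : Coef φI φF s j C.aff 0 h0 C₀) (p : Sym φI.I j × φF.I) :
    C₀ p = C₁ p * (CohB1.ProjSpace 1 k).presheaf.map (homOfLE hov).op (sv k) ^
      (((p.1 : Multiset φI.I).map φI.wt).sum + φF.wt p.2) := by
  obtain ⟨x₁, f₁, D₁, hl₁, hD₁, hm₁⟩ := h
  have h'' := h'
  obtain ⟨x₀, f₀, -, hl₀, -, -⟩ := h''
  obtain ⟨S, hS⟩ := surjective_app (g := g) C.aff ((CohB1.ProjSpace 1 k).presheaf.map (homOfLE hov).op (sv k))
  let x₁' : φI.I → FundLocal.idl g V := fun i => ⟨S ^ φI.wt i * (x₀ i).1, Ideal.mul_mem_left _ _ (x₀ i).2⟩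
  let f₁' : φF.I → Γ(F, V) := fun l => S ^ φF.wt l • f₀ l
  have hl₁' : Lifts φI φF C.aff 1 h1 x₁' f₁' := by
    refine ⟨fun i => ?_, fun l => ?_⟩
    · refine (FundLocal.cls_sum g C.aff (fun _ : Unit => S ^ φI.wt i) (fun _ => x₀ i) (x₁' i) (by simp [x₁'])).trans ?_
      rw [Fintype.sum_unique]
      refine (congrArg₂ (· • ·) (map_pow (g.app V).hom S _) (hl₀.1 i)).trans ?_
      have ht := congrArg (resM (Omega.conormal g) hov) (φI.trans i)
      rw [resM_resM, resM_smul, resM_resM] at ht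
      refine Eq.trans ?_ ht.symm
      rw [map_pow, hS]
    · show pullSec g (S ^ φF.wt l • f₀ l) = _
      rw [pullSec_smul, hl₀.2 l]
      have ht := congrArg (resM ((Scheme.Modules.pullback g).obj F) hov) (φF.trans l)
      rw [resM_resM, resM_smul, resM_resM] at ht
      refine Eq.trans ?_ ht.symm
      rw [map_pow, map_pow, hS]
  let w := fun p : Sym φI.I j × φF.I => ((p.1 : Multiset φI.I).map φI.wt).sum + φF.wt p.2
  have hnew : Coef φI φF s j C.aff 0 h0 (fun p => C₁ p *
      (CohB1.ProjSpace 1 k).presheaf.map (homOfLE hov).op (sv k) ^ w p) := by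
    refine ⟨x₀, f₀, fun p => D₁ p * S ^ w p, hl₀, fun p => ?_, ?_⟩
    · rw [map_mul, map_pow, hD₁, hS]
    · have e : expand φI φF x₀ f₀ (fun p => D₁ p * S ^ w p) = expand φI φF x₁' f₁' D₁ := by
        refine Finset.sum_congr rfl fun p _ => ?_
        show _ = (D₁ p * mon (fun i => S ^ φI.wt i * (x₀ i).1) p.1) • (S ^ φF.wt p.2 • f₀ p.2)
        rw [mon_mul, mon_pow, smul_smul]
        congr 1
        simp only [w, pow_add]
        ring
      rw [e, show resM F le_top s - expand φI φF x₁' f₁' D₁ = (resM F le_top s - expand φI φF x₁ f₁ D₁) +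
        (expand φI φF x₁ f₁ D₁ - expand φI φF x₁' f₁' D₁) by abel]
      exact add_mem hm₁ (expand_sub C hl₁ hl₁' D₁)
  exact congrFun (Coef.unique C h' hnew) p

end Groth.Agent.RCVan24
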