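import Groth.Agent.RCVan24.Laurent
import Groth.Agent.SplitP1.Decomp
import Groth.Agent.GrassLib.PBundle.ExtBasis
import Groth.Agent.GrassLib.PBundle.Chart
import Groth.Agent.ExtFilt28.Maps
import Groth.Agent.AmpleLib.Twist2
import Groth.Prelude.Def_ExtPow2

/-!
# Diagonal frames of bundles on the projective line
-/

set_option autoImplicit false
set_option linter.style.haveILetI false
set_option linter.unusedSectionVars false
set_option backward.isDefEq.respectTransparency.types false
set_option maxHeartbeats 1000000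

universe u

open CategoryTheory CategoryTheory.Limits AlgebraicGeometry Opposite TopologicalSpace
open Groth.Agent.Coherent Groth.Agent.PicLib Groth.Agent.AmpleLib Groth.Agent.P1SC24 Groth.Agent.EmbLib24

namespace Groth.Agent.RCVan24

variable {k : Type u} [Field k]

/-- A pair of bases on the two charts differing by non-positive twists `O(-wt i)`. -/
structure Frame (F : (CohB1.ProjSpace 1 k).Modules) where
  I : Type u
  [fin : Fintype I]
  wt : I → ℕ
  b : ∀ c : Fin (1 + 1), I → Γ(F, chart 1 k c)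
  basis : ∀ c, IsBasisOn F (chart 1 k c) (b c)
  trans : ∀ i, resM F (overlap_le k 1) (b 1 i) = sv k ^ wt i • resM F (overlap_le k 0) (b 0 i)

attribute [instance] Frame.fin

/-- All twists are negative. -/
def Frame.Pos {F : (CohB1.ProjSpace 1 k).Modules} (φ : Frame F) : Prop := ∀ i, 0 < φ.wt i

/-- Transport along an isomorphism. -/
noncomputable def Frame.congr {F G : (CohB1.ProjSpace 1 k).Modules} (φ : Frame F) (e : F ≅ G) : Frame G where
  I := φ.I
  wt := φ.wt
  b c i := e.hom.app _ (φ.b c i)
  basis c := GrassLib.PBundle.isBasisOn_of_iso e (fun _ => rfl) (φ.basis c)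
  trans i := by
    rw [← app_resM, φ.trans i, Scheme.Modules.Hom.app_smul, app_resM]

section General

variable {X : Scheme.{u}}

theorem isBasisOn_of_biproduct {r : ℕ} {F : X.Modules} {L : Fin r → X.Modules} (ι : ∀ i, L i ⟶ F)
    (p : ∀ i, F ⟶ L i) (hd : ∀ i, ι i ≫ p i = 𝟙 _) (ho : ∀ i j, i ≠ j → ι i ≫ p j = 0)
    (htot : ∑ i, p i ≫ ι i = 𝟙 F) {U : X.Opens} (g : ∀ i, Γ(L i, U)) (hg : ∀ i, IsGen (L i) U (g i)) :
    IsBasisOn F U fun i : ULift.{u} (Fin r) => (ι i.down).app U (g i.down) := by
  classical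
  intro V hV
  constructor
  · intro c c' h
    funext j
    have key : ∀ d : ULift.{u} (Fin r) → Γ(X, V),
        (p j.down).app V (∑ i, d i • resM F hV ((ι i.down).app U (g i.down))) = d j • resM (L j.down) hV (g j.down) := by
      intro d
      rw [map_sum, Finset.sum_eq_single j]
      · rw [Scheme.Modules.Hom.app_smul, ← app_resM]
        exact congrArg (d j • ·) (congr($(hd j.down).app V (resM (L j.down) hV (g j.down))))
      · intro i _ hij
        rw [Scheme.Modules.Hom.app_smul, ← app_resM,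
          show (p j.down).app V ((ι i.down).app V (resM (L i.down) hV (g i.down))) = 0 from
            congr($(ho i.down j.down (fun h => hij (ULift.ext _ _ h))).app V (resM (L i.down) hV (g i.down)))]
        exact smul_zero _
      · intro h; exact absurd (Finset.mem_univ j) h
    refine (hg j.down V hV).1 ?_
    show c j • _ = c' j • _
    rw [← key c, ← key c']
    exact congrArg _ h
  · intro x
    choose c hc using fun i : Fin r => (hg i V hV).2 ((p i).app V x)
    beta_reduce at hc
    refine ⟨fun i => c i.down, ?_⟩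
    beta_reduce
    have h1 : x = ∑ i, (ι i).app V ((p i).app V x) := by
      have := congr($(htot).app V x)
      rw [app_sum] at this
      exact this.symm
    rw [h1]
    refine Fintype.sum_equiv Equiv.ulift _ _ fun i => ?_
    show c i.down • resM F hV ((ι i.down).app U (g i.down)) = (ι i.down).app V ((p i.down).app V x)
    rw [← hc i.down, Scheme.Modules.Hom.app_smul, app_resM]

/-- A basis on an open gives one on the sections. -/
noncomputable def basisOfOn {E : X.Modules} {I : Type u} [Fintype I] {U V : X.Opens} {e : I → Γ(E, U)}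
    (he : IsBasisOn E U e) (h : V ≤ U) : Module.Basis I Γ(X, V) Γ(E, V) :=
  Module.Basis.ofEquivFun (LinearEquiv.ofBijective (Fintype.linearCombination Γ(X, V) fun i => resM E h (e i))
    (by convert he h using 1; exact funext fun c => Fintype.linearCombination_apply _ _ _)).symm

theorem basisOfOn_apply {E : X.Modules} {I : Type u} [Fintype I] {U V : X.Opens} {e : I → Γ(E, U)}
    (he : IsBasisOn E U e) (h : V ≤ U) (i : I) : basisOfOn he h i = resM E h (e i) := by
  classical
  rw [basisOfOn, Module.Basis.coe_ofEquivFun, LinearEquiv.symm_symm]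
  show Fintype.linearCombination Γ(X, V) (fun i => resM E h (e i)) (Pi.single i 1) = _
  rw [Fintype.linearCombination_apply_single, one_smul]

theorem bijective_of_basis {E : X.Modules} {I : Type u} [Fintype I] {V : X.Opens}
    (b : Module.Basis I Γ(X, V) Γ(E, V)) {v : I → Γ(E, V)} (hv : ∀ i, b i = v i) :
    Function.Bijective fun c : I → Γ(X, V) => ∑ i, c i • v i := by
  convert b.equivFun.symm.bijective using 1
  funext c
  rw [b.equivFun_symm_apply]
  exact Finset.sum_congr rfl fun i _ => by rw [hv]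

end General

/-- A line bundle without sections has a negative frame. -/
theorem exists_frame_line {L : (CohB1.ProjSpace 1 k).Modules} (g : ∀ c, Γ(L, chart 1 k c))
    (hg : ∀ c, IsGen L (chart 1 k c) (g c)) (h0 : Subsingleton Γ(L, ⊤)) :
    ∃ (g' : ∀ c, Γ(L, chart 1 k c)) (a : ℕ), (∀ c, IsGen L (chart 1 k c) (g' c)) ∧ 0 < a ∧
      resM L (overlap_le k 1) (g' 1) = sv k ^ a • resM L (overlap_le k 0) (g' 0) := by
  classical
  have hg0 := (hg 0).restrict (overlap_le k 0)
  have hg1 := (hg 1).restrict (overlap_le k 1)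
  have hu := hg0.isUnit_coef hg1
  have hspec := hg0.coef_spec le_rfl (resM L (overlap_le k 1) (g 1))
  rw [resM_self] at hspec
  rcases exists_of_isUnit k hu with ⟨c, a, hc, hw⟩ | ⟨c, a, hc, ha, hw⟩
  · exfalso
    rw [hw] at hspec
    let s : ∀ c : ULift.{u} (Fin (1 + 1)), Γ(L, chart 1 k c.down) := fun i =>
      if h : i.down = 0 then h ▸ (chartRing k 0 (Polynomial.C c * Polynomial.X ^ a) • g 0) else g i.down
    have hs0 : s ⟨0⟩ = chartRing k 0 (Polynomial.C c * Polynomial.X ^ a) • g 0 := by simp [s]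
    have hs1 : s ⟨1⟩ = g 1 := by simp [s]
    have hov : ∀ (i j : ULift.{u} (Fin (1 + 1))), i ≠ j → chart 1 k i.down ⊓ chart 1 k j.down ≤ overlap k := by
      intro i j hij
      rw [overlap_eq]
      obtain ⟨i⟩ := i; obtain ⟨j⟩ := j
      fin_cases i <;> fin_cases j <;> simp_all
    have hcompat : resM L (overlap_le k 0) (s ⟨0⟩) = resM L (overlap_le k 1) (s ⟨1⟩) := by
      rw [hs0, hs1, resM_smul]
      exact hspec
    obtain ⟨z, hz, -⟩ := TopCat.Sheaf.existsUnique_gluing' (⟨L.presheaf, L.isSheaf⟩ :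
      TopCat.Sheaf Ab (CohB1.ProjSpace 1 k)) (fun i : ULift.{u} (Fin (1 + 1)) => chart 1 k i.down) ⊤
      (fun _ => homOfLE le_top) (by
        rw [← chart_cover]; exact sup_le (le_iSup_of_le ⟨0⟩ le_rfl) (le_iSup_of_le ⟨1⟩ le_rfl)) s (fun i j => by
      by_cases hij : i = j
      · subst hij; rfl
      · have h := congrArg (resM L (hov i j hij)) hcompat
        rw [resM_resM, resM_resM] at h
        obtain ⟨i⟩ := i; obtain ⟨j⟩ := j
        fin_cases i <;> fin_cases j
        · exact absurd rfl hij
        · exact h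
        · exact h.symm
        · exact absurd rfl hij)
    have hz1 : resM L le_top (show Γ(L, ⊤) from z) = g 1 := (hz ⟨1⟩).trans hs1
    rw [show (show Γ(L, ⊤) from z) = 0 from Subsingleton.elim _ _, map_zero] at hz1
    have h1 : (1 : Γ(CohB1.ProjSpace 1 k, chart 1 k 1)) = 0 := by
      refine (hg 1 _ le_rfl).1 ?_
      show _ • resM L le_rfl (g 1) = _ • resM L le_rfl (g 1)
      rw [resM_self, ← hz1, smul_zero, smul_zero]
    have h2 : chartRing k 1 1 = chartRing k 1 0 := by rw [map_one, map_zero]; exact h1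
    exact one_ne_zero ((bijective_chartRing k 1).1 h2)
  · rw [hw] at hspec
    let u0 : Γ(CohB1.ProjSpace 1 k, chart 1 k 0)ˣ :=
      ((Polynomial.isUnit_C.2 (isUnit_iff_ne_zero.2 hc)).map (chartRing k 0)).unit
    refine ⟨fun i => if h : i = 0 then h ▸ ((u0 : Γ(CohB1.ProjSpace 1 k, chart 1 k 0)) • g 0) else g i, a,
      fun i => ?_, ha, ?_⟩
    · fin_cases i
      · exact (hg 0).smul_unit u0
      · exact hg 1
    · simp only [show (1 : Fin (1 + 1)) ≠ 0 by decide, dite_false, dite_true]
      rw [← hspec, resM_smul, smul_smul, mul_comm]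
      rfl

section Sum

attribute [local instance] hasFiniteBiproducts

/-- A bundle without sections has a negative frame. -/
theorem exists_frame {n : ℕ} {E : (CohB1.ProjSpace 1 k).Modules} (hE : FlatMod.IsFinLocFreeOfRank n E)
    (h0 : Subsingleton Γ(E, ⊤)) : ∃ φ : Frame E, φ.Pos := by
  classical
  obtain ⟨d, -, ⟨e⟩⟩ := (SplitP1.existsUnique_splitting n E hE).exists
  let L := fun i : Fin n => Twist.twistProjSpace 1 k (d i)
  let p : ∀ i, E ⟶ L i := fun i => e.hom ≫ Sigma.desc fun j => if h : j = i then eqToHom (congrArg L h) else 0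
  let ι : ∀ i, L i ⟶ E := fun i => Sigma.ι L i ≫ e.inv
  have hιp : ∀ i j, ι i ≫ p j = (if h : i = j then eqToHom (congrArg L h) else 0) := fun i j => by
    show (Sigma.ι L i ≫ e.inv) ≫ e.hom ≫ _ = _
    rw [Category.assoc, e.inv_hom_id_assoc, Sigma.ι_desc]
  have hd : ∀ i, ι i ≫ p i = 𝟙 _ := fun i => by rw [hιp, dif_pos rfl, eqToHom_refl]
  have ho : ∀ i j, i ≠ j → ι i ≫ p j = 0 := fun i j hij => by rw [hιp, dif_neg hij]
  have htot : ∑ i, p i ≫ ι i = 𝟙 E := by
    rw [← cancel_epi e.inv, Preadditive.comp_sum, Category.comp_id]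
    refine Sigma.hom_ext _ _ fun j => ?_
    have h1 : ∀ i, Sigma.ι L j ≫ e.inv ≫ p i ≫ ι i = (ι j ≫ p i) ≫ ι i := fun i => by
      simp only [ι, Category.assoc]
    show Sigma.ι L j ≫ (∑ i, e.inv ≫ p i ≫ ι i) = Sigma.ι L j ≫ e.inv
    rw [Preadditive.comp_sum, Finset.sum_eq_single j]
    · rw [h1, hd, Category.id_comp]
    · intro i _ hij; rw [h1, ho j i (Ne.symm hij), zero_comp]
    · simp
  have h0i : ∀ i, Subsingleton Γ(L i, ⊤) := fun i => by
    refine subsingleton_of_forall_eq 0 fun z => ?_
    have h1 : (p i).app ⊤ ((ι i).app ⊤ z) = z := congr($(hd i).app ⊤ z)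
    rw [← h1, show (ι i).app ⊤ z = 0 from Subsingleton.elim _ _, map_zero]
  choose g a hg ha hga using fun i => exists_frame_line (L := L i)
    (fun c => (show Γ(L i, chart 1 k c) from SerreDual.chartGen (d i) c))
    (fun c => SerreDual.isGen_chartGen (d i) c) (h0i i)
  exact ⟨{
      I := ULift.{u} (Fin n)
      wt := fun i => a i.down
      b := fun c i => (ι i.down).app _ (g i.down c)
      basis := fun c => isBasisOn_of_biproduct ι p hd ho htot (fun i => g i c) (fun i => hg i c)
      trans := fun i => by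
        rw [← app_resM, hga i.down, Scheme.Modules.Hom.app_smul, app_resM] }, fun i => ha i.down⟩

end Sum

theorem isAffineOpen_chart (c : Fin (1 + 1)) : IsAffineOpen (chart 1 k c) :=
  Proj.isAffineOpen_basicOpen _ _ (MvPolynomial.isHomogeneous_X k c) one_pos

theorem isAffineOpen_overlap : IsAffineOpen (overlap k) := by
  rw [overlap_eq_basicOpen]
  exact (isAffineOpen_chart 0).basicOpen _

/-- Tensor products. -/
theorem exists_tensor {F G : (CohB1.ProjSpace 1 k).Modules} [Coh.IsQCoh F] [Coh.IsQCoh G] (φ : Frame F)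
    (ψ : Frame G) : ∃ χ : Frame (CohB1.tensorMod F G), (φ.Pos ∨ ψ.Pos → χ.Pos) := by
  classical
  refine ⟨{
    I := φ.I × ψ.I
    wt := fun i => φ.wt i.1 + ψ.wt i.2
    b := fun c i => tmul (φ.b c i.1) (ψ.b c i.2)
    basis := fun c => GrassLib.PBundle.isBasisOn_of_affine _ fun A hA hAa => ?_
    trans := fun i => ?_ }, ?_⟩
  · refine bijective_of_basis (((basisOfOn (φ.basis c) hA).tensorProduct (basisOfOn (ψ.basis c) hA)).map
      (ExtFilt28.tmulEquiv F G ⟨A, hAa⟩)) fun i => ?_
    rw [Module.Basis.map_apply, Module.Basis.tensorProduct_apply', basisOfOn_apply, basisOfOn_apply, resM_tmul]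
    rfl
  · rw [resM_tmul, φ.trans, ψ.trans, tmul_smul_smul, ← pow_add, resM_tmul]
  · rintro (h | h) i
    · exact lt_of_lt_of_le (h i.1) (Nat.le_add_right _ _)
    · exact lt_of_lt_of_le (h i.2) (Nat.le_add_left _ _)

/-- Exterior powers. -/
theorem exists_extPow {F L : (CohB1.ProjSpace 1 k).Modules} {p : ℕ} (hp : 1 ≤ p) (hL : ExtPow.IsExtPow p F L)
    (φ : Frame F) (hφ : φ.Pos) : ∃ χ : Frame L, χ.Pos := by
  classical
  obtain ⟨E, hE⟩ := hL
  letI : LinearOrder φ.I := LinearOrder.lift' (Fintype.equivFin φ.I) (Fintype.equivFin φ.I).injective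
  let idx : Set.powersetCard φ.I p → Fin p → φ.I := fun s => Set.powersetCard.ofFinEmbEquiv.symm s
  let b : ∀ c : Fin (1 + 1), Set.powersetCard φ.I p → Γ(L, chart 1 k c) := fun c s =>
    (E ⟨chart 1 k c, isAffineOpen_chart c⟩).symm (exteriorPower.ιMulti _ p fun j =>
      (show F.val.obj (op (chart 1 k c)) from φ.b c (idx s j)))
  have hres : ∀ (c : Fin (1 + 1)) (s : Set.powersetCard φ.I p) (A : (CohB1.ProjSpace 1 k).Opens)
      (hA : A ≤ chart 1 k c) (hAa : IsAffineOpen A),
      resM L hA (b c s) = (E ⟨A, hAa⟩).symm (exteriorPower.ιMulti _ p fun j =>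
        (show F.val.obj (op A) from resM F hA (φ.b c (idx s j)))) := fun c s A hA hAa =>
    hE ⟨chart 1 k c, isAffineOpen_chart c⟩ ⟨A, hAa⟩ hA _
  haveI : Finite (Set.powersetCard φ.I p) := Subtype.finite
  letI : Fintype (Set.powersetCard φ.I p) := Fintype.ofFinite _
  refine ⟨{
    I := Set.powersetCard φ.I p
    wt := fun s => ∑ j, φ.wt (idx s j)
    b := b
    basis := fun c => GrassLib.PBundle.isBasisOn_of_affine _ fun A hA hAa => ?_
    trans := fun s => ?_ }, fun s => ?_⟩
  · refine bijective_of_basis (((basisOfOn (φ.basis c) hA).exteriorPower p).map (E ⟨A, hAa⟩).symm) fun s => ?_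
    rw [Module.Basis.map_apply, exteriorPower.basis_apply, hres c s A hA hAa, exteriorPower.ιMulti_family]
    refine congrArg (fun v => (E ⟨A, hAa⟩).symm (exteriorPower.ιMulti _ p v)) (funext fun j => ?_)
    exact basisOfOn_apply (φ.basis c) hA _
  · rw [hres 1 s _ (overlap_le k 1) isAffineOpen_overlap, hres 0 s _ (overlap_le k 0) isAffineOpen_overlap]
    rw [show (fun j => (show F.val.obj (op (overlap k)) from resM F (overlap_le k 1) (φ.b 1 (idx s j)))) =
      fun j => (sv k ^ φ.wt (idx s j)) • (show F.val.obj (op (overlap k)) from resM F (overlap_le k 0) (φ.b 0 (idx s j)))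
      from funext fun j => φ.trans (idx s j)]
    erw [AlternatingMap.map_smul_univ, map_smul]
    rw [Finset.prod_pow_eq_pow_sum]
    rfl
  · haveI : Nonempty (Fin p) := ⟨⟨0, hp⟩⟩
    exact Finset.sum_pos (fun j _ => hφ _) (Finset.univ_nonempty (α := Fin p))

end Groth.Agent.RCVan24
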