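import Groth.Agent.P1SC24.Rings

/-!
# Sections of negative twists on the projective line, in two charts
-/

set_option autoImplicit false
set_option backward.isDefEq.respectTransparency.types false
set_option maxHeartbeats 800000

universe u

open AlgebraicGeometry CategoryTheory Opposite TopologicalSpace Polynomial
open Groth.Agent.EmbLib24 Groth.Agent.P1SC24

namespace Groth.Agent.RCVan24

variable (k : Type u) [Field k]

/-- The coordinate of the second chart, on the overlap. -/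
noncomputable abbrev sv : Γ(CohB1.ProjSpace 1 k, overlap k) := toOverlap k 1 Polynomial.X

/-- The coordinate of the first chart, on the overlap. -/
noncomputable abbrev tv : Γ(CohB1.ProjSpace 1 k, overlap k) := toOverlap k 0 Polynomial.X

theorem tv_mul_sv : tv k * sv k = 1 := toOverlap_X_mul k

theorem toOverlap_C_eq (c : k) : toOverlap k 1 (C c) = toOverlap k 0 (C c) := by
  rw [toOverlap_C, toOverlap_C]

/-- A function of both charts is constant. -/
theorem eq_C_of_eq {p q : k[X]} (h : toOverlap k 0 p = toOverlap k 1 q) : ∃ c, p = C c ∧ q = C c := by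
  let m := q.natDegree
  have h1 : toOverlap k 0 (X ^ m * p) =
      toOverlap k 0 (∑ i ∈ Finset.range (m + 1), C (q.coeff i) * X ^ (m - i)) := by
    rw [map_mul, h, map_pow, map_sum]
    conv_lhs => rw [q.as_sum_range_C_mul_X_pow, map_sum, Finset.mul_sum]
    refine Finset.sum_congr rfl fun i hi => ?_
    obtain ⟨r, hr⟩ := Nat.exists_eq_add_of_le (Nat.lt_succ_iff.1 (Finset.mem_range.1 hi))
    rw [map_mul, map_mul, map_pow, map_pow, toOverlap_C_eq, show m - i = r by omega,
      show (toOverlap k 0 X) ^ m = (toOverlap k 0 X) ^ i * (toOverlap k 0 X) ^ r by rw [← pow_add, ← hr]]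
    calc (toOverlap k 0 X) ^ i * (toOverlap k 0 X) ^ r * (toOverlap k 0 (C (q.coeff i)) * (toOverlap k 1 X) ^ i)
        = toOverlap k 0 (C (q.coeff i)) * (toOverlap k 0 X) ^ r * ((tv k * sv k) ^ i) := by ring
      _ = _ := by rw [tv_mul_sv, one_pow, mul_one]
  have h2 := toOverlap_injective k 0 h1
  have hdeg : (∑ i ∈ Finset.range (m + 1), C (q.coeff i) * X ^ (m - i)).natDegree ≤ m := by
    refine natDegree_sum_le_of_forall_le _ _ fun i _ => ?_
    exact (natDegree_C_mul_X_pow_le _ _).trans (Nat.sub_le m i)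
  have hp : p.natDegree = 0 := by
    by_contra hne
    have hp0 : p ≠ 0 := fun h0 => hne (by rw [h0, natDegree_zero])
    have := h2 ▸ hdeg
    rw [natDegree_mul (pow_ne_zero _ X_ne_zero) hp0, natDegree_X_pow] at this
    omega
  obtain ⟨c, rfl⟩ : ∃ c, p = C c := ⟨_, eq_C_of_natDegree_eq_zero hp⟩
  refine ⟨c, rfl, toOverlap_injective k 1 (h.symm.trans (toOverlap_C_eq k c).symm)⟩

/-- The sections of a negative twist vanish. -/
theorem eq_zero_of_transition {a : ℕ} (ha : 0 < a) {f₀ : Γ(CohB1.ProjSpace 1 k, chart 1 k 0)}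
    {f₁ : Γ(CohB1.ProjSpace 1 k, chart 1 k 1)}
    (h : (CohB1.ProjSpace 1 k).presheaf.map (homOfLE (overlap_le k 0)).op f₀ =
      (CohB1.ProjSpace 1 k).presheaf.map (homOfLE (overlap_le k 1)).op f₁ * sv k ^ a) :
    f₀ = 0 ∧ f₁ = 0 := by
  obtain ⟨p, rfl⟩ := (bijective_chartRing k 0).2 f₀
  obtain ⟨q, rfl⟩ := (bijective_chartRing k 1).2 f₁
  have h' : toOverlap k 0 p = toOverlap k 1 (q * X ^ a) := by
    rw [map_mul, map_pow]; exact h
  obtain ⟨c, rfl, hq⟩ := eq_C_of_eq k h'
  have hc : c = 0 := by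
    have := congrArg (fun r : k[X] => r.coeff 0) hq
    simp only [coeff_C_zero, coeff_mul_X_pow', Nat.le_zero, ha.ne', if_false] at this
    exact this.symm
  subst hc
  refine ⟨by rw [map_zero, map_zero], ?_⟩
  rw [map_zero] at hq
  rw [(mul_eq_zero.1 hq).resolve_right (pow_ne_zero _ X_ne_zero), map_zero]

/-- A unit of the overlap is a constant times a power of the coordinate. -/
theorem exists_of_isUnit {w : Γ(CohB1.ProjSpace 1 k, overlap k)} (hw : IsUnit w) :
    (∃ (c : k) (a : ℕ), c ≠ 0 ∧ w = toOverlap k 0 (C c * X ^ a)) ∨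
      ∃ (c : k) (a : ℕ), c ≠ 0 ∧ 0 < a ∧ w = toOverlap k 0 (C c) * sv k ^ a := by
  obtain ⟨w, rfl⟩ := hw
  obtain ⟨m, p, hp⟩ := exists_mul_pow k 0 (w : Γ(CohB1.ProjSpace 1 k, overlap k))
  obtain ⟨m', p', hp'⟩ := exists_mul_pow k 0 ((w⁻¹ : _ˣ) : Γ(CohB1.ProjSpace 1 k, overlap k))
  have hpp : p * p' = X ^ (m + m') := by
    refine toOverlap_injective k 0 ?_
    rw [map_mul, ← hp, ← hp', map_pow, pow_add]
    calc (toOverlap k 0 X) ^ m * ↑w * ((toOverlap k 0 X) ^ m' * ↑w⁻¹)
        = (toOverlap k 0 X) ^ m * (toOverlap k 0 X) ^ m' * (↑w * ↑w⁻¹) := by ring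
      _ = _ := by rw [Units.mul_inv, mul_one]
  obtain ⟨j, -, hj⟩ := (dvd_prime_pow (Polynomial.prime_X (R := k)) (m + m')).1 (Dvd.intro p' hpp)
  obtain ⟨v, hv⟩ := hj.symm
  obtain ⟨c, hc, hcv⟩ := Polynomial.isUnit_iff.1 v.isUnit
  have hw' : (toOverlap k 0 X) ^ m * (w : Γ(CohB1.ProjSpace 1 k, overlap k)) = toOverlap k 0 (C c * X ^ j) := by
    rw [hp, ← hv, ← hcv, mul_comm]
  have hone : ∀ i : ℕ, sv k ^ i * (toOverlap k 0 X) ^ i = 1 := fun i => by
    rw [← mul_pow, mul_comm (sv k), show toOverlap k 0 X * sv k = 1 from tv_mul_sv k, one_pow]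
  rcases le_or_gt m j with hmj | hmj
  · left
    obtain ⟨r, rfl⟩ := Nat.exists_eq_add_of_le hmj
    refine ⟨c, r, hc.ne_zero, ?_⟩
    calc (w : Γ(CohB1.ProjSpace 1 k, overlap k)) = sv k ^ m * ((toOverlap k 0 X) ^ m * w) := by
          rw [← mul_assoc, hone, one_mul]
      _ = _ := by
          rw [hw', map_mul, map_mul, map_pow, map_pow, pow_add]
          calc sv k ^ m * (toOverlap k 0 (C c) * ((toOverlap k 0 X) ^ m * (toOverlap k 0 X) ^ r))
              = toOverlap k 0 (C c) * (toOverlap k 0 X) ^ r * (sv k ^ m * (toOverlap k 0 X) ^ m) := by ring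
            _ = _ := by rw [hone, mul_one]
  · right
    obtain ⟨r, rfl⟩ := Nat.exists_eq_add_of_le hmj.le
    refine ⟨c, r, hc.ne_zero, by omega, ?_⟩
    calc (w : Γ(CohB1.ProjSpace 1 k, overlap k)) = sv k ^ (j + r) * ((toOverlap k 0 X) ^ (j + r) * w) := by
          rw [← mul_assoc, hone, one_mul]
      _ = _ := by
          rw [hw', map_mul, map_pow, pow_add]
          calc sv k ^ j * sv k ^ r * (toOverlap k 0 (C c) * (toOverlap k 0 X) ^ j)
              = toOverlap k 0 (C c) * sv k ^ r * (sv k ^ j * (toOverlap k 0 X) ^ j) := by ring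
            _ = _ := by rw [hone, mul_one]

end Groth.Agent.RCVan24
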