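import Groth.Agent.RCVan24.Vanish
import Groth.Agent.CohDer1.GroupOmega
import Groth.Agent.JacAJ27.Kappa
import Groth.Agent.SmoothImmH2.Regular
import Groth.Agent.ExtPowEx28.Pull
import Groth.Agent.WedgeDual5.Sheaf
import Groth.Agent.ExtFilt28.LocFree
import Groth.Agent.FlatMorAdm.LocFreeApps
import Groth.Agent.Clifford24.SmoothFamily
import Groth.Agent.CAlgH3.LocFreeFactor
import Groth.Agent.OmegaLib.LocFree

/-!
# No pluri-differential forms on varieties with a very free rational curve
-/

set_option autoImplicit false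
set_option linter.style.haveILetI false
set_option linter.unusedSectionVars false
set_option backward.isDefEq.respectTransparency false
set_option backward.isDefEq.respectTransparency.types false
set_option maxHeartbeats 2000000

universe u

open CategoryTheory CategoryTheory.Limits AlgebraicGeometry Opposite TopologicalSpace
open Groth.Agent.Coherent Groth.Agent.PicLib Groth.Agent.AmpleLib Groth.Agent.P1SC24 Groth.Agent.EmbLib24

noncomputable section

namespace Groth.Agent.RCVan24

theorem isFinLocFree_tensorPow {X : Scheme.{u}} {E : X.Modules} (hE : FlatMod.IsFinLocFree E) :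
    ∀ m, FlatMod.IsFinLocFree (CohB1.tensorPow E m)
  | 0 => Coherent.CohBC.isFinLocFree_structureModule X
  | m + 1 => ExtFilt28.isFinLocFree_tensor (isFinLocFree_tensorPow hE m) hE

/-- The rank is constant on an integral scheme. -/
theorem exists_rank {X : Scheme.{u}} [IsIntegral X] {E : X.Modules} (hE : FlatMod.IsFinLocFree E) :
    ∃ n, FlatMod.IsFinLocFreeOfRank n E := by
  obtain ⟨U₀, n, hx₀, ⟨e₀⟩⟩ := hE (genericPoint X)
  refine ⟨n, fun x => ?_⟩
  obtain ⟨U, m, hx, ⟨e⟩⟩ := hE x
  have hη : genericPoint X ∈ U := ((genericPoint_spec X).mem_open_set_iff U.2).2 ⟨x, trivial, hx⟩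
  obtain ⟨A, hA, hηA, hAle⟩ := Opens.isBasis_iff_nbhd.1 X.isBasis_affineOpens (show genericPoint X ∈ U ⊓ U₀ from ⟨hη, hx₀⟩)
  obtain ⟨b⟩ := Props12.exists_basis_sections e (W := A) (hAle.trans inf_le_left)
  obtain ⟨b₀⟩ := Props12.exists_basis_sections e₀ (W := A) (hAle.trans inf_le_right)
  haveI : Nonempty A := ⟨⟨_, hηA⟩⟩
  have : m = n := by simpa using Fintype.card_congr (b.indexEquiv b₀)
  subst this
  exact ⟨U, hx, ⟨e⟩⟩

/-- Tensor powers of a frame. -/
theorem exists_tensorPow {k : Type u} [Field k] {E : (CohB1.ProjSpace 1 k).Modules}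
    (hE : FlatMod.IsFinLocFree E) (φ : Frame E) (hφ : φ.Pos) :
    ∀ m, 1 ≤ m → ∃ χ : Frame (CohB1.tensorPow E m), χ.Pos := by
  intro m
  induction m with
  | zero => intro h; omega
  | succ m ih =>
    intro _
    rcases Nat.eq_zero_or_pos m with rfl | hm
    · exact ⟨φ.congr (AmpleLib.unitTensorIso E).symm, hφ⟩
    · obtain ⟨χ, hχ⟩ := ih hm
      haveI := CAlgH3.LocFreeFactor.isQCoh_of_finLocFree hE
      haveI := CAlgH3.LocFreeFactor.isQCoh_of_finLocFree (isFinLocFree_tensorPow hE m)
      obtain ⟨ψ, hψ⟩ := exists_tensor χ φ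
      exact ⟨ψ, hψ (Or.inl hχ)⟩

theorem stalkMap_injective_of_flat {X Y : Scheme.{u}} (r : Y ⟶ X) [Flat r] (y : Y) :
    Function.Injective (r.stalkMap y).hom := by
  have hflat := Flat.stalkMap r y
  let := (r.stalkMap y).hom.toAlgebra
  have : IsLocalHom (algebraMap (X.presheaf.stalk (r y)) (Y.presheaf.stalk y)) :=
    inferInstanceAs (IsLocalHom (r.stalkMap y).hom)
  have : Module.Flat (X.presheaf.stalk (r y)) (Y.presheaf.stalk y) := hflat
  have := Module.FaithfullyFlat.of_flat_of_isLocalHom (A := X.presheaf.stalk (r y)) (B := Y.presheaf.stalk y)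
  exact FaithfulSMul.algebraMap_injective (X.presheaf.stalk (r y)) (Y.presheaf.stalk y)

variable {k : Type u} [Field k] {X : Scheme.{u}} {sX : X ⟶ Spec (CommRingCat.of k)}

/-- A section of a locally free module with negative restriction to a very free curve vanishes near a point. -/
theorem exists_eq_zero_of_frame [Smooth sX] [IsSeparated sX] (f : CohB1.ProjSpace 1 k ⟶ X)
    (hf : f ≫ sX = CohB1.ProjSpace.toSpec 1 k) (φΩ : Frame ((Scheme.Modules.pullback f).obj (Omega.sheaf sX)))
    {G : X.Modules} (hG : FlatMod.IsFinLocFree G) (φG : Frame ((Scheme.Modules.pullback f).obj G)) (hpos : φG.Pos)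
    (z : Γ(G, ⊤)) : ∃ U : X.Opens, (U : Set X).Nonempty ∧ resM G (le_top : U ≤ ⊤) z = 0 := by
  classical
  let p := CohB1.ProjSpace.toSpec 1 k
  let Y := pullback p sX
  let q : Y ⟶ CohB1.ProjSpace 1 k := pullback.fst p sX
  let r : Y ⟶ X := pullback.snd p sX
  let g : CohB1.ProjSpace 1 k ⟶ Y := pullback.lift (𝟙 _) f (by rw [Category.id_comp]; exact hf.symm)
  have hgq : g ≫ q = 𝟙 _ := pullback.lift_fst _ _ _
  have hgr : g ≫ r = f := pullback.lift_snd _ _ _
  haveI : IsClosedImmersion g := by
    haveI : IsClosedImmersion (g ≫ q) := by rw [hgq]; infer_instance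
    exact IsClosedImmersion.of_comp g q
  haveI : Smooth q := inferInstanceAs (Smooth (pullback.fst p sX))
  haveI : Smooth (g ≫ q) := by rw [hgq]; infer_instance
  haveI : IsProper p := Coherent.isProper_projSpace_toSpec 1 k
  haveI : IsLocallyNoetherian (CohB1.ProjSpace 1 k) := LocallyOfFiniteType.isLocallyNoetherian p
  haveI : LocallyOfFiniteType q := inferInstanceAs (LocallyOfFiniteType (pullback.fst p sX))
  haveI : IsLocallyNoetherian Y := LocallyOfFiniteType.isLocallyNoetherian q
  -- the conormal frame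
  haveI : QuasiSeparated q := inferInstanceAs (QuasiSeparated (pullback.fst p sX))
  obtain ⟨e₁⟩ := CohDer1.GroupOmega.nonempty_pullback_omega_iso_conormal q g hgq
  obtain ⟨e₂⟩ := JacAJ27.nonempty_omega_bc (IsPullback.of_hasPullback p sX).flip
  let e₃ : (Scheme.Modules.pullback f).obj (Omega.sheaf sX) ≅ Omega.conormal g :=
    (Scheme.Modules.pullbackCongr hgr.symm).app _ ≪≫ ((Scheme.Modules.pullbackComp g r).app _).symm ≪≫
      (Scheme.Modules.pullback g).mapIso e₂ ≪≫ e₁
  let φI := φΩ.congr e₃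
  let F := (Scheme.Modules.pullback r).obj G
  let e₄ : (Scheme.Modules.pullback f).obj G ≅ (Scheme.Modules.pullback g).obj F :=
    (Scheme.Modules.pullbackCongr hgr.symm).app _ ≪≫ ((Scheme.Modules.pullbackComp g r).app _).symm
  let φF := φG.congr e₄
  have hch : ∀ y, ∃ V, g y ∈ V ∧ Nonempty (Ch g F V) := by
    intro y
    obtain ⟨V, hyV, -, rs, hseq, hker⟩ := (SmoothImmH2.isRegularImmersion_of_smooth q g).2 y
    let a : Fin rs.length → FundLocal.idl g V.1 := fun l => ⟨rs.get l, by
      show rs.get l ∈ RingHom.ker (g.app V.1).hom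
      rw [hker]; exact Ideal.subset_span (List.get_mem rs l)⟩
    have hspan : Ideal.span (Set.range fun l => (a l).1) = FundLocal.idl g V.1 := by
      show _ = RingHom.ker (g.app V.1).hom
      rw [hker]
      exact congrArg Ideal.span (Set.ext fun x => ⟨fun ⟨l, hl⟩ => hl ▸ List.get_mem rs l,
        fun hx => List.mem_iff_get.1 hx⟩)
    have hqr : CAlgX.IsQuasiRegular fun l => (a l).1 :=
      Nrm16Lib.isQuasiRegular_get_of_isWeaklyRegular hseq.toIsWeaklyRegular
    have hK : CAlgH.KoszulRegular.KReg fun l => (a l).1 :=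
      SDiv28.RegSeq.kreg_of_regular (by rw [List.ofFn_get]; exact hseq.toIsWeaklyRegular)
    obtain ⟨U, m, b, hyU, hb⟩ := exists_isBasisOn hG (r (g y))
    let C₁ : Ch g (Coh.structureModule Y) V.1 :=
      { aff := V.2
        n := rs.length
        a := a
        span := hspan
        qr := hqr
        cbasis := GrassLib.PBundle.isBasisOn_of_affine _ fun A hA hAa => by
          have h := FundLocal.bijective_cls g V.2 a hspan hK hAa hA
          have h' := h.comp (Equiv.arrowCongr (Equiv.ulift.{u}) (Equiv.refl _)).bijective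
          refine (iff_of_eq (congrArg Function.Bijective (funext fun c => ?_))).2 h'
          rw [Function.comp_apply, Fintype.linearCombination_apply]
          exact Fintype.sum_equiv Equiv.ulift _ _ fun l => rfl
        β := PUnit.{u + 1}
        bF := fun _ => oneSec V.1
        fbasis := fun W hW => by
          have h := ((isGen_oneSec V.1) W hW).comp (Equiv.funUnique PUnit.{u + 1} Γ(Y, W)).bijective
          convert h using 1
          funext c
          simp }
    obtain ⟨V', hyV', hle, ⟨C'⟩⟩ := exists_ch_le C₁ hyV (O := r ⁻¹ᵁ U) hyU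
    refine ⟨V', hyV', ⟨
      { aff := C'.aff
        n := C'.n
        a := C'.a
        span := C'.span
        qr := C'.qr
        cbasis := C'.cbasis
        β := ULift.{u} (Fin m)
        bF := fun i => resM F (hle.trans inf_le_right) (pullSec r (b i))
        fbasis := fun W hW => ?_ }⟩⟩
    convert (hb.pull r) (hW.trans (hle.trans inf_le_right)) using 2
    exact Finset.sum_congr rfl fun i _ => congrArg (_ • ·) (resM_resM _ _ _ _)
  obtain ⟨y⟩ : Nonempty ↥(CohB1.ProjSpace 1 k) := by
    haveI := CurveLib.isIntegral_projSpace k 1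
    exact ⟨genericPoint _⟩
  have htop : (⊤ : Y.Opens) ≤ r ⁻¹ᵁ ⊤ := fun _ _ => trivial
  obtain ⟨O, hyO, hO⟩ := exists_eq_zero g q hgq F φI φF hpos hch (resM F htop (pullSec r z)) y
  rw [resM_resM] at hO
  obtain ⟨U₀, m, b, hxU, hb⟩ := exists_isBasisOn hG (r (g y))
  let coef := hb.coef le_rfl (resM G (le_top : U₀ ≤ ⊤) z)
  have hz : ∑ i, coef i • b i = resM G (le_top : U₀ ≤ ⊤) z := by
    have := hb.coef_spec le_rfl (resM G (le_top : U₀ ≤ ⊤) z)
    simp only [resM_self] at this
    exact this
  haveI : Flat r := by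
    haveI : Flat p := inferInstance
    exact inferInstanceAs (Flat (pullback.snd p sX))
  have hcoef : ∀ i, X.presheaf.germ U₀ (r (g y)) hxU (coef i) = 0 := by
    intro i
    let W := O ⊓ r ⁻¹ᵁ U₀
    have h1 : resM F (inf_le_right : W ≤ r ⁻¹ᵁ U₀) (pullSec r (resM G (le_top : U₀ ≤ ⊤) z)) = 0 := by
      rw [← resM_pullSec r (le_top : U₀ ≤ ⊤) z, resM_resM]
      have := congrArg (resM F (inf_le_left : W ≤ O)) hO
      rw [resM_resM, map_zero] at this
      exact this
    have h2 : pullSec r (resM G (le_top : U₀ ≤ ⊤) z) = ∑ i, (r.app U₀).hom (coef i) • pullSec r (b i) := by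
      rw [← hz]
      show ((Scheme.Modules.pullbackPushforwardAdjunction r).unit.app G).app U₀ _ = _
      rw [map_sum]
      exact Finset.sum_congr rfl fun i _ => pullSec_smul r _ _
    rw [h2, map_sum] at h1
    simp only [resM_smul] at h1
    have h3 := ((hb.pull r) (inf_le_right : W ≤ r ⁻¹ᵁ U₀)).1
      (a₁ := fun i => Y.presheaf.map (homOfLE (inf_le_right : W ≤ r ⁻¹ᵁ U₀)).op ((r.app U₀).hom (coef i)))
      (a₂ := 0) (h1.trans (by simp))
    have h4 := congrArg (Y.presheaf.germ W (g y) ⟨hyO, hxU⟩) (congrFun h3 i)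
    rw [Pi.zero_apply, map_zero, TopCat.Presheaf.germ_res_apply] at h4
    refine stalkMap_injective_of_flat r (g y) ?_
    rw [map_zero]
    refine Eq.trans ?_ h4
    exact r.germ_stalkMap_apply U₀ (g y) hxU (coef i)
  have hW : ∀ i, ∃ (W : X.Opens) (hW : W ≤ U₀), r (g y) ∈ W ∧ X.presheaf.map (homOfLE hW).op (coef i) = 0 := fun i => by
    obtain ⟨W, hW, i₁, i₂, h⟩ := X.presheaf.germ_eq (r (g y)) hxU hxU (coef i) 0 ((hcoef i).trans (map_zero _).symm)
    exact ⟨W, i₁.le, hW, h.trans (map_zero _)⟩
  choose W hWle hyW hW0 using hW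
  refine ⟨U₀ ⊓ Finset.univ.inf W, ⟨r (g y), hxU, ?_⟩, ?_⟩
  · have : ∀ S : Finset (ULift.{u} (Fin m)), r (g y) ∈ S.inf W := fun S => by
      induction S using Finset.induction with
      | empty => trivial
      | insert i S _ ih => rw [Finset.inf_insert]; exact ⟨hyW i, ih⟩
    exact this _
  · have hle : U₀ ⊓ Finset.univ.inf W ≤ U₀ := inf_le_left
    rw [show resM G (le_top : U₀ ⊓ Finset.univ.inf W ≤ ⊤) z = resM G hle (resM G (le_top : U₀ ≤ ⊤) z) from
      (resM_resM G le_top hle z).symm, ← hz, map_sum]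
    refine Finset.sum_eq_zero fun i _ => ?_
    have hi : U₀ ⊓ Finset.univ.inf W ≤ W i := inf_le_right.trans (Finset.inf_le (Finset.mem_univ i))
    rw [resM_smul]
    have e : X.presheaf.map (homOfLE hle).op (coef i) = 0 := by
      have h5 := congrArg (X.presheaf.map (homOfLE hi).op) (hW0 i)
      rw [map_zero] at h5
      refine Eq.trans ?_ h5
      show _ = (X.presheaf.map _ ≫ X.presheaf.map _) (coef i)
      rw [← Functor.map_comp]
      rfl
    exact (congrArg (· • _) e).trans (zero_smul _ _)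

theorem subsingleton_of_frame [Smooth sX] [IsSeparated sX] [IsIntegral X] (f : CohB1.ProjSpace 1 k ⟶ X)
    (hf : f ≫ sX = CohB1.ProjSpace.toSpec 1 k) (φΩ : Frame ((Scheme.Modules.pullback f).obj (Omega.sheaf sX)))
    {G : X.Modules} (hG : FlatMod.IsFinLocFree G) (φG : Frame ((Scheme.Modules.pullback f).obj G)) (hpos : φG.Pos) :
    Subsingleton Γ(G, ⊤) := by
  refine subsingleton_of_forall_eq 0 fun z => ?_
  obtain ⟨U, hU, hz⟩ := exists_eq_zero_of_frame f hf φΩ hG φG hpos z
  have hz' : ∀ (V : X.Opens) (m : ℕ) (b : ULift.{u} (Fin m) → Γ(G, V)), IsBasisOn G V b →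
      resM G (le_top : V ≤ ⊤) z = 0 := by
    intro V m b hb
    rw [← hb.coef_spec le_rfl (resM G (le_top : V ≤ ⊤) z)]
    refine Finset.sum_eq_zero fun i _ => ?_
    have hi : hb.coef le_rfl (resM G (le_top : V ≤ ⊤) z) i = 0 := by
      rcases (V : Set X).eq_empty_or_nonempty with he | hne
      · exact AmpleLib.sec_ext (Coh.structureModule X) _ _ fun v hv =>
          absurd (show v ∈ (V : Set X) from hv) (by rw [he]; exact Set.notMem_empty v)
      · haveI : Nonempty ↑((V ⊓ U : X.Opens).toScheme) := by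
          obtain ⟨v, hv⟩ := nonempty_preirreducible_inter V.2 U.2 hne hU
          exact ⟨⟨v, hv⟩⟩
        refine map_injective_of_isIntegral X (homOfLE (inf_le_left : V ⊓ U ≤ V)) ?_
        have h := congrFun (hb.coef_res le_rfl (inf_le_left : V ⊓ U ≤ V) (resM G (le_top : V ≤ ⊤) z)) i
        rw [map_zero]
        refine h.symm.trans ?_
        have h0 : resM G (inf_le_left : V ⊓ U ≤ V) (resM G (le_top : V ≤ ⊤) z) = 0 := by
          have := congrArg (resM G (inf_le_right : V ⊓ U ≤ U)) hz
          rw [resM_resM, map_zero] at this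
          rw [resM_resM]; exact this
        rw [h0]
        exact congrFun (hb.coef_eq _ (x := 0) (c := 0) (by simp)) i
    rw [hi, zero_smul]
  refine AmpleLib.sec_ext G _ _ fun x hx => ?_
  obtain ⟨V, m, b, hxV, hb⟩ := exists_isBasisOn hG x
  exact ⟨V, le_top, hxV, by rw [map_zero]; exact hz' V m b hb⟩

end Groth.Agent.RCVan24
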