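import Groth.Agent.RCVan24.Coef
import Mathlib.RingTheory.Filtration

/-!
# A section without leading coefficients vanishes near the curve
-/

set_option autoImplicit false
set_option linter.style.haveILetI false
set_option linter.unusedSectionVars false
set_option backward.isDefEq.respectTransparency false
set_option backward.isDefEq.respectTransparency.types false
set_option maxHeartbeats 2000000

universe u

open CategoryTheory CategoryTheory.Limits AlgebraicGeometry Opposite TopologicalSpace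
open Groth.Agent.Coherent Groth.Agent.PicLib Groth.Agent.AmpleLib Groth.Agent.P1SC24 Groth.Agent.EmbLib24

noncomputable section

namespace Groth.Agent.RCVan24

variable {k : Type u} [Field k] {Y : Scheme.{u}} (g : CohB1.ProjSpace 1 k ⟶ Y) [IsClosedImmersion g]
  (q : Y ⟶ CohB1.ProjSpace 1 k) (hq : g ≫ q = 𝟙 _) (F : Y.Modules)
  (φI : Frame (Omega.conormal g)) (φF : Frame ((Scheme.Modules.pullback g).obj F)) (hF : φF.Pos)
  (hch : ∀ y, ∃ V, g y ∈ V ∧ Nonempty (Ch g F V)) (s : Γ(F, ⊤))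

include hq φI φF hF hch

/-- A section vanishes to every order along the curve. -/
theorem mem_pow (j : ℕ) : ∀ (c : Fin (1 + 1)) (V : Y.Opens), Ch g F V → g ⁻¹ᵁ V ≤ chart 1 k c →
    resM F le_top s ∈ (FundLocal.idl g V ^ j) • (⊤ : Submodule Γ(Y, V) Γ(F, V)) := by
  classical
  induction j with
  | zero =>
    intro c V C hc
    rw [pow_zero, Ideal.one_eq_top, Submodule.top_smul]
    exact Submodule.mem_top
  | succ j ih =>
    haveI : Fintype (Sym φI.I j) := Fintype.ofFinite _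
    let P := CohB1.ProjSpace 1 k
    have hqg : ∀ U : P.Opens, g ⁻¹ᵁ (q ⁻¹ᵁ U) = U := fun U => by rw [← Scheme.Hom.comp_preimage, hq]; rfl
    have hcover : ∀ (c : Fin (1 + 1)) (y : chart 1 k c), ∃ V, g y.1 ∈ V ∧ g ⁻¹ᵁ V ≤ chart 1 k c ∧ Nonempty (Ch g F V) := by
      intro c y
      obtain ⟨V₀, hy, ⟨C⟩⟩ := hch y.1
      obtain ⟨V, hyV, hle, hC⟩ := exists_ch_le C hy (O := q ⁻¹ᵁ chart 1 k c)
        ((hqg (chart 1 k c)).ge y.2)
      exact ⟨V, hyV, (g.preimage_mono (hle.trans inf_le_right)).trans (hqg _).le, hC⟩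
    choose V hyV hVc hC using hcover
    have hcoef : ∀ (c : Fin (1 + 1)) (y : chart 1 k c),
        ∃ C₀, Coef φI φF s j (hC c y).some.aff c (hVc c y) C₀ := fun c y =>
      exists_coef (hC c y).some (hVc c y) (ih c (V c y) (hC c y).some (hVc c y))
    choose K hK using hcoef
    have hov : ∀ (c : Fin (1 + 1)) (y y' : chart 1 k c) (p : Sym φI.I j × φF.I),
        P.presheaf.map (homOfLE (inf_le_left : g ⁻¹ᵁ V c y ⊓ g ⁻¹ᵁ V c y' ≤ g ⁻¹ᵁ V c y)).op (K c y p) =
          P.presheaf.map (homOfLE (inf_le_right : g ⁻¹ᵁ V c y ⊓ g ⁻¹ᵁ V c y' ≤ g ⁻¹ᵁ V c y')).op (K c y' p) := by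
      intro c y y' p
      refine AmpleLib.sec_ext (Coh.structureModule P) _ _ fun z hz => ?_
      obtain ⟨V', hzV, hle, ⟨C'⟩⟩ := exists_ch_le (hC c y).some (O := V c y') (y := g z) hz.1 hz.2
      have hle' : g ⁻¹ᵁ V' ≤ g ⁻¹ᵁ V c y ⊓ g ⁻¹ᵁ V c y' :=
        le_inf (g.preimage_mono (hle.trans inf_le_left)) (g.preimage_mono (hle.trans inf_le_right))
      refine ⟨g ⁻¹ᵁ V', hle', hzV, ?_⟩
      have h1 := (hK c y).res C'.aff (hle.trans inf_le_left)
      have h2 := (hK c y').res C'.aff (hle.trans inf_le_right)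
      have h3 := congrFun (Coef.unique C' h1 h2) p
      show (P.presheaf.map _ ≫ P.presheaf.map (homOfLE hle').op) (K c y p) =
        (P.presheaf.map _ ≫ P.presheaf.map (homOfLE hle').op) (K c y' p)
      rw [← Functor.map_comp, ← Functor.map_comp]
      exact h3
    have hcov : ∀ c : Fin (1 + 1), chart 1 k c ≤ ⨆ y : chart 1 k c, g ⁻¹ᵁ V c y := fun c y hy =>
      Opens.mem_iSup.2 ⟨⟨y, hy⟩, hyV c ⟨y, hy⟩⟩
    choose G hG using fun (c : Fin (1 + 1)) (p : Sym φI.I j × φF.I) =>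
      (TopCat.Sheaf.existsUnique_gluing' P.sheaf (fun y : chart 1 k c => g ⁻¹ᵁ V c y) (chart 1 k c)
        (fun y => homOfLE (hVc c y)) (hcov c) (fun y => K c y p) (fun y y' => hov c y y' p)).exists
    have hglob : ∀ (c : Fin (1 + 1)) (W : Y.Opens) (C : Ch g F W) (hc : g ⁻¹ᵁ W ≤ chart 1 k c)
        (C₀ : Sym φI.I j × φF.I → Γ(P, g ⁻¹ᵁ W)), Coef φI φF s j C.aff c hc C₀ →
        ∀ p, C₀ p = P.presheaf.map (homOfLE hc).op (G c p) := by
      intro c W C hc C₀ h p
      refine AmpleLib.sec_ext (Coh.structureModule P) _ _ fun z hz => ?_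
      obtain ⟨V', hzV, hle, ⟨C'⟩⟩ := exists_ch_le C (O := V c ⟨z, hc hz⟩) (y := g z) hz (hyV c ⟨z, hc hz⟩)
      refine ⟨g ⁻¹ᵁ V', g.preimage_mono (hle.trans inf_le_left), hzV, ?_⟩
      have h1 := h.res C'.aff (hle.trans inf_le_left)
      have h2 := (hK c ⟨z, hc hz⟩).res C'.aff (hle.trans inf_le_right)
      have h3 := congrFun (Coef.unique C' h1 h2) p
      refine h3.trans ?_
      show P.presheaf.map _ (K c ⟨z, hc hz⟩ p) =
        (P.presheaf.map (homOfLE hc).op ≫ P.presheaf.map (homOfLE (g.preimage_mono (hle.trans inf_le_left))).op) (G c p)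
      rw [← Functor.map_comp, ← hG c p ⟨z, hc hz⟩]
      show (P.presheaf.map _ ≫ P.presheaf.map _) (G c p) = _
      rw [← Functor.map_comp]
      rfl
    have hzero : ∀ p, G 0 p = 0 ∧ G 1 p = 0 := by
      intro p
      refine eq_zero_of_transition k (a := ((p.1 : Multiset φI.I).map φI.wt).sum + φF.wt p.2)
        (Nat.add_pos_right _ (hF p.2)) ?_
      refine AmpleLib.sec_ext (Coh.structureModule P) _ _ fun z hz => ?_
      obtain ⟨V₀, hzV₀, ⟨C₀⟩⟩ := hch z
      obtain ⟨V', hzV, hle, ⟨C'⟩⟩ := exists_ch_le C₀ hzV₀ (O := q ⁻¹ᵁ overlap k) ((hqg (overlap k)).ge hz)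
      have hov' : g ⁻¹ᵁ V' ≤ overlap k := (g.preimage_mono (hle.trans inf_le_right)).trans (hqg _).le
      refine ⟨g ⁻¹ᵁ V', hov', hzV, ?_⟩
      have h0 := hov'.trans (overlap_le k 0)
      have h1 := hov'.trans (overlap_le k 1)
      obtain ⟨D₀, hD₀⟩ := exists_coef (φI := φI) (φF := φF) C' h0 (ih 0 V' C' h0)
      obtain ⟨D₁, hD₁⟩ := exists_coef (φI := φI) (φF := φF) C' h1 (ih 1 V' C' h1)
      have ht := coef_transition C' h0 h1 hov' hD₁ hD₀ p
      rw [hglob 0 V' C' h0 D₀ hD₀ p, hglob 1 V' C' h1 D₁ hD₁ p] at ht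
      show (P.presheaf.map _ ≫ P.presheaf.map _) (G 0 p) = P.presheaf.map (homOfLE hov').op (_ * _)
      rw [map_mul, map_pow, ← Functor.map_comp]
      show _ = (P.presheaf.map _ ≫ P.presheaf.map _) (G 1 p) * _
      rw [← Functor.map_comp]
      exact ht
    intro c W C hc
    obtain ⟨C₀, hC₀⟩ := exists_coef (φI := φI) (φF := φF) C hc (ih c W C hc)
    have h0 : C₀ = 0 := funext fun p => by
      rw [hglob c W C hc C₀ hC₀ p, Pi.zero_apply]
      have : G c p = 0 := by
        fin_cases c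
        · exact (hzero p).1
        · exact (hzero p).2
      rw [this, map_zero]
    exact mem_of_coef_zero C.aff (h0 ▸ hC₀)

/-- A section vanishes near the curve. -/
theorem exists_eq_zero [IsLocallyNoetherian Y] (y : CohB1.ProjSpace 1 k) :
    ∃ O : Y.Opens, g y ∈ O ∧ resM F (le_top : O ≤ ⊤) s = 0 := by
  classical
  obtain ⟨c, hyc⟩ : ∃ c : Fin (1 + 1), y ∈ chart 1 k c := by
    rcases (chart_cover k).ge (show y ∈ (⊤ : (CohB1.ProjSpace 1 k).Opens) from trivial) with h | h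
    · exact ⟨0, h⟩
    · exact ⟨1, h⟩
  obtain ⟨V₀, hy₀, ⟨C₀⟩⟩ := hch y
  obtain ⟨V, hyV, hle, ⟨C⟩⟩ := exists_ch_le C₀ hy₀ (O := q ⁻¹ᵁ chart 1 k c) (by
    show q (g y) ∈ chart 1 k c
    rw [← Scheme.Hom.comp_apply, hq]; exact hyc)
  have hc : g ⁻¹ᵁ V ≤ chart 1 k c := (g.preimage_mono (hle.trans inf_le_right)).trans
    (by rw [← Scheme.Hom.comp_preimage, hq]; rfl)
  let z := C.fbasis.coef le_rfl (resM F le_top s)
  let germ := (Y.presheaf.germ V (g y) hyV).hom
  have hI : (FundLocal.idl g V).map germ ≤ IsLocalRing.maximalIdeal (Y.presheaf.stalk (g y)) := by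
    rw [Ideal.map_le_iff_le_comap]
    intro a ha
    refine (IsLocalRing.mem_maximalIdeal _).2 fun hu => ?_
    have h1 : g y ∈ Y.basicOpen a := (Y.mem_basicOpen a (g y) hyV).2 hu
    have h2 : y ∈ g ⁻¹ᵁ Y.basicOpen a := h1
    rw [Scheme.preimage_basicOpen, show (g.app V).hom a = 0 from ha] at h2
    exact (by simpa using h2 : False)
  have hzero : ∀ b, germ (z b) = 0 := fun b => by
    have h : ∀ j : ℕ, germ (z b) ∈ IsLocalRing.maximalIdeal (Y.presheaf.stalk (g y)) ^ j := fun j => by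
      have hz := coef_mem C (mem_pow g q hq F φI φF hF hch s j c V C hc) b
      refine Ideal.pow_right_mono hI j ?_
      rw [← Ideal.map_pow]
      exact Ideal.mem_map_of_mem _ hz
    have h' : germ (z b) ∈ ⨅ j : ℕ, IsLocalRing.maximalIdeal (Y.presheaf.stalk (g y)) ^ j := Ideal.mem_iInf.2 h
    rwa [Ideal.iInf_pow_eq_bot_of_isLocalRing _ (IsLocalRing.maximalIdeal.isMaximal _).ne_top] at h'
  have hW : ∀ b, ∃ (W : Y.Opens) (hW : W ≤ V), g y ∈ W ∧ Y.presheaf.map (homOfLE hW).op (z b) = 0 := fun b => by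
    obtain ⟨W, hyW, i₁, i₂, h⟩ := Y.presheaf.germ_eq (g y) hyV hyV (z b) 0 ((hzero b).trans (map_zero germ).symm)
    exact ⟨W, i₁.le, hyW, h.trans (map_zero _)⟩
  choose W hW hyW hz using hW
  have hle' : (V ⊓ Finset.univ.inf W : Y.Opens) ≤ V := inf_le_left
  refine ⟨V ⊓ Finset.univ.inf W, ⟨hyV, ?_⟩, ?_⟩
  · have : ∀ S : Finset C.β, g y ∈ S.inf W := fun S => by
      induction S using Finset.induction with
      | empty => trivial
      | insert b S _ ih => rw [Finset.inf_insert]; exact ⟨hyW b, ih⟩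
    exact this _
  · rw [show resM F (le_top : (V ⊓ Finset.univ.inf W : Y.Opens) ≤ ⊤) s = resM F hle' (resM F le_top s) from
      (resM_resM F le_top hle' s).symm, ← C.fbasis.coef_spec le_rfl (resM F (le_top : V ≤ ⊤) s), map_sum]
    refine Finset.sum_eq_zero fun b _ => ?_
    have hb : (V ⊓ Finset.univ.inf W : Y.Opens) ≤ W b := inf_le_right.trans (Finset.inf_le (Finset.mem_univ b))
    rw [resM_smul]
    have e : Y.presheaf.map (homOfLE hle').op (z b) = 0 := by
      have h4 := congrArg (Y.presheaf.map (homOfLE hb).op) (hz b)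
      rw [map_zero] at h4
      refine Eq.trans ?_ h4
      show _ = (Y.presheaf.map _ ≫ Y.presheaf.map _) (z b)
      rw [← Functor.map_comp]
      rfl
    exact (congrArg (· • _) e).trans (zero_smul _ _)

end Groth.Agent.RCVan24
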